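import Groth.Agent.Sga3.BddGen.Points
import Groth.Agent.GenSub.Word
import Groth.Agent.GrpschAbsch.IdComp
import Groth.Agent.GrpschAbsch.NeutralSubgroup

/-!
Commutator subgroups of rational points, and the rational points of generated subgroup schemes.
-/

set_option autoImplicit false
set_option backward.isDefEq.respectTransparency false
set_option linter.style.haveILetI false

universe u v

open CategoryTheory CategoryTheory.Limits MonoidalCategory CartesianMonoidalCategory MonObj GrpObj
  AlgebraicGeometry TopologicalSpace Topology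
open scoped commutatorElement Pointwise

noncomputable section

namespace Groth.Sga3.BddGen

open Groth.Sga3.Solvable Groth.AlgGrp1

variable {K : Type u} [Field K] [IsAlgClosed K]

attribute [local instance] ptsTopology

variable {G : Over (Spec (CommRingCat.of K))} [GrpObj G] [LocallyOfFiniteType G.hom]

theorem imgSet_eq_image_univ {X : Over (Spec (CommRingCat.of K))} (w : X ⟶ G) :
    imgSet w = (fun x : specAlg K K ⟶ X => x ≫ w) '' {x | x.left.base (IsLocalRing.closedPoint K) ∈ Set.univ} := by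
  ext g
  simp [imgSet]

/-- Bounded generation of the commutator subgroup. -/
theorem bdd_commutator {A B : Over (Spec (CommRingCat.of K))} [GrpObj A] [GrpObj B]
    (a : A ⟶ G) [IsMonHom a] [IsClosedImmersion a.left] (b : B ⟶ G) [IsMonHom b] [IsClosedImmersion b.left]
    [QuasiCompact B.hom] (As Bs : Subgroup (Pts G)) (hAs : (As : Set (Pts G)) = imgSet a)
    (hBs : (Bs : Set (Pts G)) = imgSet b)
    (hcase : (As.Normal ∧ Bs.Normal ∧ QuasiCompact A.hom) ∨ ConnectedSpace A.left) : Bdd (commSet As Bs) := by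
  haveI hA : LocallyOfFiniteType A.hom := by rw [← Over.w a]; infer_instance
  haveI hB : LocallyOfFiniteType B.hom := by rw [← Over.w b]; infer_instance
  have hH := isZariskiGroup G
  rcases hcase with ⟨hn, hn', hqc⟩ | hconn
  · exact bdd_commutator_of_normal hH (geo G) As Bs (hAs ▸ ⟨A, hA, hqc, a, rfl⟩)
      (hAs ▸ isClosed_imgSet G a) (hBs ▸ ⟨B, hB, ‹_›, b, rfl⟩) (hBs ▸ isClosed_imgSet G b)
  · haveI : CompactSpace A.left := ⟨by
      rw [← PreconnectedSpace.connectedComponent_eq_univ (Groth.GrpschAbsch.unitPt A)]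
      exact Groth.GrpschAbsch.isCompact_connectedComponent_one A⟩
    have hqc : QuasiCompact A.hom := (quasiCompact_iff_compactSpace A.hom).2 inferInstance
    haveI := Groth.GrpschAbsch.irreducibleSpace_of_connected_lft A
    refine bdd_commutator_of_irreducible hH (geo G) As Bs (hAs ▸ ⟨A, hA, hqc, a, rfl⟩) ?_
    rw [hAs, imgSet_eq_image_univ]
    exact isIrreducible_imgSet a isClosed_univ (IrreducibleSpace.isIrreducible_univ A.left)

/-- A closed set of rational points containing those of a dense family contains all rational points. -/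
theorem imgSet_subset_of_dense {Γ : Over (Spec (CommRingCat.of K))} (i : Γ ⟶ G) {I : Type v}
    {W : I → Over (Spec (CommRingCat.of K))} (hW : ∀ l, LocallyOfFiniteType (W l).hom) (d : ∀ l, W l ⟶ Γ)
    (hd : Dense (⋃ l, Set.range (d l).left)) {D : Set (Pts G)} (hD : IsClosed D)
    (h : ∀ l, imgSet (d l ≫ i) ⊆ D) : imgSet i ⊆ D := by
  obtain ⟨Z, hZ, rfl⟩ := isClosed_induced_iff.1 hD
  rintro _ ⟨z, rfl⟩
  show (z ≫ i).left.base _ ∈ Z
  refine Set.mem_of_eq_of_mem (Scheme.Hom.comp_apply _ _ _) ?_
  refine closure_minimal (t := i.left.base ⁻¹' Z) ?_ (hZ.preimage i.left.continuous) (hd _)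
  refine Set.iUnion_subset fun l => ?_
  rintro _ ⟨q, rfl⟩
  have := hW l
  have h1 : (d l ≫ i).left.base q ∈ closure Z :=
    closure_mono (Set.image_subset_iff.2 fun g hg => h l hg) (range_subset_closure G (d l ≫ i) ⟨q, rfl⟩)
  rw [hZ.closure_eq] at h1
  show i.left.base ((d l).left.base q) ∈ Z
  exact Set.mem_of_eq_of_mem (Scheme.Hom.comp_apply (d l).left i.left q).symm h1

omit [IsAlgClosed K] in
theorem lft_word {X : Over (Spec (CommRingCat.of K))} [LocallyOfFiniteType X.hom] :
    ∀ l : List Bool, LocallyOfFiniteType (GenSub.word X l).hom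
  | [] => inferInstanceAs (LocallyOfFiniteType (𝟙 _))
  | _ :: l => by
      have := lft_word (X := X) l
      exact inferInstanceAs (LocallyOfFiniteType (pullback.fst X.hom (GenSub.word X l).hom ≫ X.hom))

omit [IsAlgClosed K] [LocallyOfFiniteType G.hom] in
theorem imgSet_wordMap {X : Over (Spec (CommRingCat.of K))} (f : X ⟶ G) :
    ∀ l : List Bool, imgSet (GenSub.wordMap f l) ⊆ (Subgroup.closure (imgSet f) : Set (Pts G))
  | [] => by
      rintro _ ⟨x, rfl⟩
      simp [GenSub.wordMap]
  | b :: l => by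
      rintro _ ⟨x, rfl⟩
      have h1 : (x ≫ fst X (GenSub.word X l)) ≫ f ∈ Subgroup.closure (imgSet f) := Subgroup.subset_closure ⟨_, rfl⟩
      have h2 := imgSet_wordMap f l ⟨x ≫ snd X (GenSub.word X l), rfl⟩
      have : x ≫ GenSub.wordMap f (b :: l) = ((x ≫ fst X (GenSub.word X l)) ≫ if b then f else f⁻¹) *
          ((x ≫ snd X (GenSub.word X l)) ≫ GenSub.wordMap f l) := by
        show x ≫ ((fst X (GenSub.word X l) ≫ if b then f else f⁻¹) * (snd X (GenSub.word X l) ≫ GenSub.wordMap f l)) = _
        rw [MonObj.comp_mul, Category.assoc, Category.assoc]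
      show x ≫ GenSub.wordMap f (b :: l) ∈ Subgroup.closure (imgSet f)
      rw [this]
      refine mul_mem ?_ h2
      cases b
      · simp only [Bool.false_eq_true, if_false, GrpObj.comp_inv]
        exact inv_mem h1
      · simpa using h1

/-- The rational points of the subgroup generated by `f` are in every closed subgroup containing
those of `f`. -/
theorem imgSet_subset_of_min {X : Over (Spec (CommRingCat.of K))} [LocallyOfFiniteType X.hom]
    [GeometricallyReduced X.hom] (f : X ⟶ G)
    (Γ : Over (Spec (CommRingCat.of K))) (i : Γ ⟶ G)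
    (hmin : ∀ (Γ' : Over (Spec (CommRingCat.of K))) (_ : GrpObj Γ') (i' : Γ' ⟶ G), IsMonHom i' → IsClosedImmersion i'.left →
        (∃ f'' : X ⟶ Γ', f'' ≫ i' = f) → ∃ j : Γ ⟶ Γ', j ≫ i' = i)
    (D : Subgroup (Pts G)) (hD : IsClosed (D : Set (Pts G))) (hf : imgSet f ⊆ D) : imgSet i ⊆ D := by
  obtain ⟨Γ₀, _, i₀, d, hmon, hc, -, hd, hdense, hf₀, -⟩ := GenSub.exists_generated f
  obtain ⟨j, hj⟩ := hmin Γ₀ inferInstance i₀ inferInstance hc hf₀
  have h := imgSet_subset_of_dense i₀ lft_word d hdense hD fun l => by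
    rw [hd]
    exact (imgSet_wordMap f l).trans ((Subgroup.closure_le D).2 hf)
  rintro _ ⟨z, rfl⟩
  refine h ⟨z ≫ j, ?_⟩
  show (z ≫ j) ≫ i₀ = z ≫ i
  rw [Category.assoc, hj]

/-- Rational points as morphisms from the unit object. -/
def unitIso : 𝟙_ (Over (Spec (CommRingCat.of K))) ≅ specAlg K K :=
  Over.isoMk (Iso.refl _) (by
    show 𝟙 _ ≫ Spec.map _ = 𝟙 _
    rw [Category.id_comp, Algebra.algebraMap_self]
    exact Spec.map_id _)

/-- The two groups of rational points. -/
def ptsEquivUnit (G : Over (Spec (CommRingCat.of K))) [GrpObj G] :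
    (𝟙_ (Over (Spec (CommRingCat.of K))) ⟶ G) ≃* Pts G where
  toEquiv := unitIso.homFromEquiv
  map_mul' x y := MonObj.comp_mul _ _ _

omit [IsAlgClosed K] [LocallyOfFiniteType G.hom] in
theorem image_range_comp {X : Over (Spec (CommRingCat.of K))} (w : X ⟶ G) :
    ptsEquivUnit G '' Set.range (fun x : 𝟙_ (Over (Spec (CommRingCat.of K))) ⟶ X => x ≫ w) = imgSet w := by
  rw [imgSet, ← Set.range_comp]
  ext g
  constructor
  · rintro ⟨x, rfl⟩
    exact ⟨unitIso.inv ≫ x, Category.assoc _ _ _⟩
  · rintro ⟨y, rfl⟩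
    refine ⟨unitIso.hom ≫ y, ?_⟩
    show unitIso.inv ≫ (unitIso.hom ≫ y) ≫ w = y ≫ w
    simp

end Groth.Sga3.BddGen
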