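import Groth.Agent.Sga3.BddGen.Main

/-!
Bounded generation by the rational points of a connected scheme of finite type.
-/

set_option autoImplicit false
set_option backward.isDefEq.respectTransparency false
set_option linter.style.haveILetI false

universe u

open CategoryTheory CategoryTheory.Limits MonoidalCategory CartesianMonoidalCategory MonObj GrpObj
  AlgebraicGeometry TopologicalSpace Topology
open scoped commutatorElement Pointwise

noncomputable section

namespace Groth.Sga3.BddGen

open Groth.Sga3.Solvable Groth.AlgGrp1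

variable {K : Type u} [Field K] [IsAlgClosed K]

attribute [local instance] ptsTopology

theorem bdd_of_connected {G X : Over (Spec (CommRingCat.of K))} [GrpObj G] [LocallyOfFiniteType G.hom]
    [LocallyOfFiniteType X.hom] [QuasiCompact X.hom] [ConnectedSpace X.left] (f : X ⟶ G)
    (hone : (1 : Pts G) ∈ imgSet f) : Bdd (imgSet f) := by
  haveI : IsLocallyNoetherian X.left := LocallyOfFiniteType.isLocallyNoetherian X.hom
  haveI : CompactSpace X.left := QuasiCompact.compactSpace_of_compactSpace X.hom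
  haveI : IsNoetherian X.left := {}
  let val : Set X.left → Set (Pts G) := fun Z =>
    (fun x : specAlg K K ⟶ X => x ≫ f) '' {x | x.left.base (IsLocalRing.closedPoint K) ∈ Z}
  refine bdd_of_pieces (isZariskiGroup G) (geo G) hone (val '' irreducibleComponents X.left) ?_ ?_
  · rintro _ ⟨Z, hZ, rfl⟩
    have hZc := isClosed_of_mem_irreducibleComponents Z hZ
    refine ⟨?_, ?_, isIrreducible_imgSet f hZc hZ.1⟩
    · rintro _ ⟨x, -, rfl⟩
      exact ⟨x, rfl⟩
    · obtain ⟨Y, hY, hY', j, -, -, -, hj⟩ := exists_closedSub (X := X) hZc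
      refine ⟨Y, hY, hY', j ≫ f, ?_⟩
      show (fun x : specAlg K K ⟶ X => x ≫ f) '' _ = _
      rw [← hj, imgSet, imgSet, ← Set.range_comp]
      exact congrArg Set.range (funext fun y => Category.assoc _ _ _)
  · intro D hD
    let P : Set (Set X.left) := {Z | Z ∈ irreducibleComponents X.left ∧
      ∀ x : specAlg K K ⟶ X, x.left.base (IsLocalRing.closedPoint K) ∈ Z → x ≫ f ∈ D}
    have hmem : ∀ Z ∈ irreducibleComponents X.left, ∀ x : specAlg K K ⟶ X,
        x.left.base (IsLocalRing.closedPoint K) ∈ Z → x ≫ f ∈ D → Z ∈ P := by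
      intro Z hZ x hx hxD
      refine ⟨hZ, fun y hy => ?_⟩
      have h := mul_mem (hD _ ⟨Z, hZ, rfl⟩ _ ⟨y, hy, rfl⟩ _ ⟨x, hx, rfl⟩) hxD
      rwa [inv_mul_cancel_right] at h
    have hfin : (irreducibleComponents X.left).Finite := NoetherianSpace.finite_irreducibleComponents
    have hcl : IsClosed (⋃₀ P) :=
      Set.sUnion_eq_biUnion ▸ (hfin.subset (t := P) fun Z hZ => hZ.1).isClosed_biUnion fun Z hZ => isClosed_of_mem_irreducibleComponents Z hZ.1
    have hcl' : IsClosed (⋃₀ (irreducibleComponents X.left \ P)) :=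
      Set.sUnion_eq_biUnion ▸ (hfin.subset (t := irreducibleComponents X.left \ P) Set.sdiff_subset).isClosed_biUnion fun Z hZ => isClosed_of_mem_irreducibleComponents Z hZ.1
    have hdisj : Disjoint (⋃₀ P) (⋃₀ (irreducibleComponents X.left \ P)) := by
      rw [Set.disjoint_left]
      rintro q ⟨Z, hZ, hqZ⟩ ⟨Z', hZ', hqZ'⟩
      obtain ⟨y, hy, hy'⟩ := exists_pt (X := X) (Z := Z ∩ Z') ⟨q, hqZ, hqZ'⟩
        ((isClosed_of_mem_irreducibleComponents Z hZ.1).inter (isClosed_of_mem_irreducibleComponents Z' hZ'.1)).isLocallyClosed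
      exact hZ'.2 (hmem Z' hZ'.1 y hy' (hZ.2 y hy))
    have hcover : ∀ q : X.left, q ∈ ⋃₀ P ∨ q ∈ ⋃₀ (irreducibleComponents X.left \ P) := fun q => by
      by_cases h : irreducibleComponent q ∈ P
      · exact Or.inl ⟨_, h, mem_irreducibleComponent⟩
      · exact Or.inr ⟨_, ⟨irreducibleComponent_mem_irreducibleComponents q, h⟩, mem_irreducibleComponent⟩
    have hopen : IsOpen (⋃₀ P) := by
      have : ⋃₀ P = (⋃₀ (irreducibleComponents X.left \ P))ᶜ := Set.ext fun q =>
        ⟨fun h => Set.disjoint_left.1 hdisj h, fun h => (hcover q).resolve_right h⟩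
      rw [this]
      exact hcl'.isOpen_compl
    obtain ⟨x₀, hx₀⟩ := hone
    have hne : (⋃₀ P).Nonempty :=
      ⟨x₀.left.base (IsLocalRing.closedPoint K), _, hmem _ (irreducibleComponent_mem_irreducibleComponents _) x₀
        mem_irreducibleComponent (by rw [show x₀ ≫ f = 1 from hx₀]; exact one_mem D), mem_irreducibleComponent⟩
    have huniv : ⋃₀ P = Set.univ := IsClopen.eq_univ ⟨hcl, hopen⟩ hne
    rintro _ ⟨x, rfl⟩
    obtain ⟨Z, hZ, hxZ⟩ := huniv.symm.subset (Set.mem_univ (x.left.base (IsLocalRing.closedPoint K)))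
    exact hZ.2 x hxZ

end Groth.Sga3.BddGen
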