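import Mathlib.GroupTheory.Schreier
import Mathlib.GroupTheory.Abelianization.Defs
import Mathlib.GroupTheory.QuotientGroup.Finite
import Mathlib.GroupTheory.FiniteAbelian.Basic

/-!
Baer's theorem: if the commutators of two normal subgroups form a finite set, the commutator subgroup
is finite.
-/

set_option autoImplicit false

universe u

open scoped commutatorElement

namespace Groth.Sga3.BddGen

variable {H : Type u} [Group H]

theorem isOfFinOrder_of_forall_pow_mem {x : H} {S : Set H} (hS : S.Finite) (h : ∀ n : ℕ, x ^ n ∈ S) :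
    IsOfFinOrder x := by
  obtain ⟨m, -, n, -, hmn, he⟩ := Set.infinite_univ.exists_ne_map_eq_of_mapsTo (f := fun n : ℕ => x ^ n)
    (fun n _ => h n) hS
  exact isOfFinOrder_iff_pow_eq_one.2 <| by
    rcases Nat.lt_or_gt_of_ne hmn with hl | hl
    · exact ⟨n - m, Nat.sub_pos_of_lt hl, by rw [pow_sub _ hl.le, ← he, mul_inv_cancel]⟩
    · exact ⟨m - n, Nat.sub_pos_of_lt hl, by rw [pow_sub _ hl.le, he, mul_inv_cancel]⟩

/-- The commutators of two subgroups. -/
def commSet (A B : Subgroup H) : Set H := {g | ∃ a ∈ A, ∃ b ∈ B, ⁅a, b⁆ = g}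

theorem commutator_eq_closure (A B : Subgroup H) : ⁅A, B⁆ = Subgroup.closure (commSet A B) :=
  Subgroup.commutator_def A B

theorem image_commSet {H' : Type u} [Group H'] (π : H →* H') (A B : Subgroup H) :
    commSet (A.map π) (B.map π) = π '' commSet A B := by
  ext g
  constructor
  · rintro ⟨_, ⟨a, ha, rfl⟩, _, ⟨b, hb, rfl⟩, rfl⟩
    exact ⟨_, ⟨a, ha, b, hb, rfl⟩, map_commutatorElement π a b⟩
  · rintro ⟨_, ⟨a, ha, b, hb, rfl⟩, rfl⟩
    exact ⟨_, Subgroup.mem_map_of_mem π ha, _, Subgroup.mem_map_of_mem π hb, (map_commutatorElement π a b).symm⟩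

theorem eq_bot_of_torsionFree (A B : Subgroup H) [A.Normal] [B.Normal] (hfin : (commSet A B).Finite)
    (hab : ∀ x ∈ ⁅A, B⁆, ∀ y ∈ ⁅A, B⁆, x * y = y * x)
    (htf : ∀ x ∈ ⁅A, B⁆, IsOfFinOrder x → x = 1) : ⁅A, B⁆ = ⊥ := by
  have hmem : ∀ a ∈ A, ∀ b ∈ B, ⁅a, b⁆ ∈ ⁅A, B⁆ := fun a ha b hb => Subgroup.commutator_mem_commutator ha hb
  have h1 : ∀ a ∈ A, ∀ b ∈ B, (∀ x ∈ ⁅A, B⁆, b * x = x * b) → ⁅a, b⁆ = 1 := by
    intro a ha b hb hc
    refine htf _ (hmem a ha b hb) (isOfFinOrder_of_forall_pow_mem hfin fun n => ⟨a, ha, b ^ n, pow_mem hb n, ?_⟩)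
    induction n with
    | zero => simp
    | succ n ih =>
      have hcn : b ^ n * ⁅a, b⁆ = ⁅a, b⁆ * b ^ n :=
        ((show Commute b ⁅a, b⁆ from hc _ (hmem a ha b hb)).pow_left n).eq
      rw [pow_succ (⁅a, b⁆), ← ih, pow_succ b]
      calc ⁅a, b ^ n * b⁆ = ⁅a, b ^ n⁆ * (b ^ n * ⁅a, b⁆ * (b ^ n)⁻¹) := by
            simp only [commutatorElement_def]; group
        _ = ⁅a, b ^ n⁆ * ⁅a, b⁆ := by rw [hcn, mul_inv_cancel_right]
  have h2 : ∀ a ∈ A, ∀ b ∈ B, (∀ x ∈ ⁅A, B⁆, a * x = x * a) → ⁅a, b⁆ = 1 := by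
    intro a ha b hb hc
    refine htf _ (hmem a ha b hb) (isOfFinOrder_of_forall_pow_mem hfin fun n => ⟨a ^ n, pow_mem ha n, b, hb, ?_⟩)
    induction n with
    | zero => simp
    | succ n ih =>
      rw [pow_succ (⁅a, b⁆)]
      have hm : a * ⁅a ^ n, b⁆ = ⁅a ^ n, b⁆ * a := hc _ (hmem _ (pow_mem ha n) b hb)
      calc ⁅a ^ (n + 1), b⁆ = a * ⁅a ^ n, b⁆ * a⁻¹ * ⁅a, b⁆ := by
            rw [pow_succ']; simp only [commutatorElement_def]; group
        _ = ⁅a, b⁆ ^ n * ⁅a, b⁆ := by rw [hm, mul_inv_cancel_right, ih]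
  have hA : ∀ a ∈ A, ∀ x ∈ ⁅A, B⁆, a * x = x * a := fun a ha x hx =>
    commutatorElement_eq_one_iff_mul_comm.1
      (h1 a ha x (Subgroup.commutator_le_right A B hx) fun y hy => hab x hx y hy)
  rw [commutator_eq_closure, Subgroup.closure_eq_bot_iff]
  rintro _ ⟨a, ha, b, hb, rfl⟩
  exact h2 a ha b hb (hA a ha)

theorem isOfFinOrder_of_abelian (A B : Subgroup H) [A.Normal] [B.Normal] (hfin : (commSet A B).Finite)
    (hab : ∀ x ∈ ⁅A, B⁆, ∀ y ∈ ⁅A, B⁆, x * y = y * x) : ∀ x ∈ ⁅A, B⁆, IsOfFinOrder x := by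
  let T : Subgroup H :=
    { carrier := {x | x ∈ ⁅A, B⁆ ∧ IsOfFinOrder x}
      one_mem' := ⟨one_mem _, isOfFinOrder_iff_pow_eq_one.2 ⟨1, Nat.one_pos, one_pow 1⟩⟩
      mul_mem' := fun {a b} ha hb => ⟨mul_mem ha.1 hb.1, (show Commute a b from hab a ha.1 b hb.1).isOfFinOrder_mul ha.2 hb.2⟩
      inv_mem' := fun {a} ha => ⟨inv_mem ha.1, isOfFinOrder_inv_iff.2 ha.2⟩ }
  haveI : T.Normal := ⟨fun x hx g => ⟨(inferInstance : (⁅A, B⁆ : Subgroup H).Normal).conj_mem x hx.1 g,
    MonoidHom.isOfFinOrder (MulAut.conj g).toMonoidHom hx.2⟩⟩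
  let π := QuotientGroup.mk' T
  haveI : (A.map π).Normal := Subgroup.Normal.map inferInstance π (QuotientGroup.mk'_surjective T)
  haveI : (B.map π).Normal := Subgroup.Normal.map inferInstance π (QuotientGroup.mk'_surjective T)
  have hmap : ⁅A.map π, B.map π⁆ = (⁅A, B⁆).map π := (Subgroup.map_commutator A B π).symm
  have h := eq_bot_of_torsionFree (A.map π) (B.map π) (by rw [image_commSet]; exact hfin.image π)
    (by
      rw [hmap]
      rintro _ ⟨x, hx, rfl⟩ _ ⟨y, hy, rfl⟩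
      rw [← map_mul, ← map_mul, hab x hx y hy])
    (by
      rw [hmap]
      rintro _ ⟨x, hx, rfl⟩ hfo
      obtain ⟨n, hn, he⟩ := isOfFinOrder_iff_pow_eq_one.1 hfo
      rw [← map_pow] at he
      have hT : x ^ n ∈ T := (QuotientGroup.eq_one_iff _).1 he
      exact (QuotientGroup.eq_one_iff _).2 ⟨hx, hT.2.of_pow hn.ne'⟩)
  intro x hx
  have hx' : π x ∈ ⁅A.map π, B.map π⁆ := hmap ▸ Subgroup.mem_map_of_mem π hx
  rw [h, Subgroup.mem_bot] at hx'
  exact ((QuotientGroup.eq_one_iff _).1 hx').2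

/-- Baer's theorem. -/
theorem finite_commutator (A B : Subgroup H) [A.Normal] [B.Normal] (hfin : (commSet A B).Finite) :
    ((⁅A, B⁆ : Subgroup H) : Set H).Finite := by
  classical
  let K : Subgroup H := ⁅A, B⁆
  have hKn : K.Normal := inferInstance
  have hgen : K = Subgroup.closure (commSet A B) := commutator_eq_closure A B
  -- the conjugation action on the finite set of commutators
  have hconj : ∀ g : H, ∀ s ∈ commSet A B, g * s * g⁻¹ ∈ commSet A B := by
    rintro g _ ⟨a, ha, b, hb, rfl⟩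
    exact ⟨g * a * g⁻¹, Subgroup.Normal.conj_mem inferInstance a ha g, g * b * g⁻¹,
      Subgroup.Normal.conj_mem inferInstance b hb g, (conjugate_commutatorElement a b g).symm⟩
  haveI : Finite (commSet A B) := hfin.to_subtype
  let φ : K → (commSet A B → commSet A B) := fun x s => ⟨x.1 * s.1 * x.1⁻¹, hconj _ _ s.2⟩
  have hφ : ∀ x y : K, φ x = φ y → ∀ z : K, ⁅x, z⁆ = ⁅y, z⁆ ∧ ⁅z, x⁆ = ⁅z, y⁆ := by
    intro x y hxy z
    have hc : ∀ w ∈ K, (y⁻¹ * x : H) * w = w * (y⁻¹ * x : H) := by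
      intro w hw
      rw [hgen] at hw
      induction hw using Subgroup.closure_induction with
      | mem s hs =>
        have he : (x : H) * s * (x : H)⁻¹ = (y : H) * s * (y : H)⁻¹ := congrArg Subtype.val (congrFun hxy ⟨s, hs⟩)
        calc (y : H)⁻¹ * x * s = (y : H)⁻¹ * (x * s * (x : H)⁻¹) * x := by group
          _ = s * ((y : H)⁻¹ * x) := by rw [he]; group
      | one => simp
      | mul a b _ _ ha hb => rw [← mul_assoc _ a b, ha, mul_assoc, hb, ← mul_assoc]
      | inv a _ ha => exact (show Commute _ a from ha).inv_right.eq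
    let c : K := y⁻¹ * x
    have hcz : ∀ w : K, c * w = w * c := fun w => Subtype.ext (hc w.1 w.2)
    have hxe : x = y * c := (mul_inv_cancel_left y x).symm
    have hcz' : c * z * c⁻¹ = z := by rw [hcz z, mul_inv_cancel_right]
    rw [hxe]
    constructor
    · calc ⁅y * c, z⁆ = y * (c * z * c⁻¹) * y⁻¹ * z⁻¹ := by simp only [commutatorElement_def]; group
        _ = ⁅y, z⁆ := by rw [hcz', commutatorElement_def]
    · calc ⁅z, y * c⁆ = z * y * (c * z⁻¹ * c⁻¹) * y⁻¹ := by simp only [commutatorElement_def]; group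
        _ = ⁅z, y⁆ := by rw [hcz z⁻¹, mul_inv_cancel_right, commutatorElement_def]
  let inv : Set.range φ → K := fun f => f.2.choose
  have hinv : ∀ f, φ (inv f) = f.1 := fun f => f.2.choose_spec
  haveI : Finite (commutatorSet K) := by
    refine Set.Finite.to_subtype ((Set.finite_range fun p : Set.range φ × Set.range φ => ⁅inv p.1, inv p.2⁆).subset ?_)
    rintro _ ⟨x, y, rfl⟩
    exact ⟨(⟨φ x, x, rfl⟩, ⟨φ y, y, rfl⟩),
      ((hφ _ x (hinv ⟨φ x, x, rfl⟩) _).1).trans ((hφ _ y (hinv ⟨φ y, y, rfl⟩) x).2)⟩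
  -- all elements have finite order
  haveI hN : (⁅K, K⁆ : Subgroup H).Normal := inferInstance
  have hK' : ((⁅K, K⁆ : Subgroup H) : Set H).Finite := by
    have : (_root_.commutator K).map K.subtype = ⁅K, K⁆ := by
      rw [commutator_def, Subgroup.map_commutator, ← MonoidHom.range_eq_map, Subgroup.range_subtype]
    rw [← this]
    exact (@Set.toFinite _ ((_root_.commutator K : Subgroup K) : Set K) (inferInstanceAs (Finite (_root_.commutator K)))).image _
  let π := QuotientGroup.mk' (⁅K, K⁆ : Subgroup H)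
  haveI : (A.map π).Normal := Subgroup.Normal.map inferInstance π (QuotientGroup.mk'_surjective _)
  haveI : (B.map π).Normal := Subgroup.Normal.map inferInstance π (QuotientGroup.mk'_surjective _)
  have hmap : ⁅A.map π, B.map π⁆ = K.map π := (Subgroup.map_commutator A B π).symm
  have htor := isOfFinOrder_of_abelian (A.map π) (B.map π) (by rw [image_commSet]; exact hfin.image π) (by
    rw [hmap]
    rintro _ ⟨x, hx, rfl⟩ _ ⟨y, hy, rfl⟩
    refine commutatorElement_eq_one_iff_mul_comm.1 ?_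
    rw [← map_commutatorElement]
    exact (QuotientGroup.eq_one_iff _).2 (Subgroup.commutator_mem_commutator hx hy))
  have hord : ∀ x : K, IsOfFinOrder x := by
    intro x
    obtain ⟨n, hn, he⟩ := isOfFinOrder_iff_pow_eq_one.1 (htor (π x) (hmap ▸ Subgroup.mem_map_of_mem π x.2))
    rw [← map_pow] at he
    have hm : (x : H) ^ n ∈ (⁅K, K⁆ : Subgroup H) := (QuotientGroup.eq_one_iff _).1 he
    have : IsOfFinOrder ((x : H) ^ n) := isOfFinOrder_of_forall_pow_mem hK' fun m => pow_mem hm m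
    exact Submonoid.isOfFinOrder_coe.1 (this.of_pow hn.ne')
  -- finiteness
  haveI : Group.FG K := by
    rw [Group.fg_iff_subgroup_fg, hgen]
    exact Subgroup.fg_iff _ |>.2 ⟨_, rfl, hfin⟩
  haveI : Group.FG (Abelianization K) := Group.fg_of_surjective (f := Abelianization.of) QuotientGroup.mk_surjective
  haveI : Finite (Abelianization K) := CommGroup.finite_of_fg_isMulTorsion (G := Abelianization K) fun z => by
    obtain ⟨x, rfl⟩ := QuotientGroup.mk_surjective z
    exact MonoidHom.isOfFinOrder (Abelianization.of : K →* _) (hord x)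
  haveI : Finite (K ⧸ _root_.commutator K) := ‹Finite (Abelianization K)›
  haveI : Finite K := Finite.of_subgroup_quotient (H := _root_.commutator K)
  exact Set.toFinite _

end Groth.Sga3.BddGen
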