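import Groth.Agent.Sga3.Solvable.GroupBound
import Groth.Agent.Sga3.BddGen.Baer
import Mathlib.Algebra.Group.Pointwise.Set.Basic
import Mathlib.Topology.NoetherianSpace
import Mathlib.Order.RelSeries

/-!
Subgroups generated by irreducible constructible sets in a group with a Zariski topology.
-/

set_option autoImplicit false

universe u

open scoped commutatorElement Pointwise
open scoped Classical
open TopologicalSpace Order

namespace Groth.Sga3.BddGen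

open Groth.Sga3.GroupBound

variable {H : Type u} [Group H]

/-- A set with the inverses of its elements. -/
def pm (F : Set H) : Set H := F ∪ F⁻¹

theorem pm_pow_subset (F : Set H) (n : ℕ) : pm F ^ n ⊆ (Subgroup.closure F : Set H) := by
  induction n with
  | zero => rw [pow_zero]; exact Set.one_subset.2 (one_mem _)
  | succ n ih =>
    rw [pow_succ]
    rintro _ ⟨a, ha, b, hb, rfl⟩
    refine mul_mem (ih ha) ?_
    rcases hb with hb | hb
    · exact Subgroup.subset_closure hb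
    · exact (Subgroup.inv_mem_iff _).1 (Subgroup.subset_closure hb)

theorem exists_mem_pm_pow {F : Set H} {x : H} (hx : x ∈ Subgroup.closure F) : ∃ n, x ∈ pm F ^ n := by
  induction hx using Subgroup.closure_induction'' with
  | mem y hy => exact ⟨1, by rw [pow_one]; exact Or.inl hy⟩
  | inv_mem y hy => exact ⟨1, by rw [pow_one]; exact Or.inr (by simpa using hy)⟩
  | one => exact ⟨0, by simp⟩
  | mul a b _ _ ha hb =>
    obtain ⟨m, hm⟩ := ha
    obtain ⟨n, hn⟩ := hb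
    exact ⟨m + n, by rw [pow_add]; exact Set.mul_mem_mul hm hn⟩

theorem pm_pow_mono {F : Set H} (h : (1 : H) ∈ F) {m n : ℕ} (hmn : m ≤ n) : pm F ^ m ⊆ pm F ^ n :=
  Set.pow_subset_pow_right (Or.inl h) hmn

theorem pm_inv (F : Set H) : (pm F)⁻¹ = pm F := by
  rw [pm, Set.union_inv, inv_inv, Set.union_comm]

variable [TopologicalSpace H]

/-- The sets which behave like images of schemes of finite type. -/
structure Geo (Img : Set H → Prop) : Prop where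
  singleton : ∀ g : H, Img {g}
  mul : ∀ P Q : Set H, Img P → Img Q → Img (P * Q)
  inv : ∀ P : Set H, Img P → Img P⁻¹
  comm : ∀ (P : Set H) (b : H), Img P → Img ((fun x => ⁅x, b⁆) '' P)
  inter : ∀ P Z : Set H, Img P → IsClosed Z → Img (P ∩ Z)
  exists_open : ∀ P : Set H, Img P → IsIrreducible P →
    ∃ U : Set H, IsOpen U ∧ (U ∩ closure P).Nonempty ∧ U ∩ closure P ⊆ P
  noeth : ∀ P : Set H, Img P → NoetherianSpace P
  dim : ∃ d : ℕ, topologicalKrullDim H ≤ d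

/-- The subgroup generated by `F` is closed and consists of the products of a bounded number of
elements of `F` and their inverses. -/
def Bdd (F : Set H) : Prop :=
  ∃ N : ℕ, pm F ^ N = (Subgroup.closure F : Set H) ∧ IsClosed (Subgroup.closure F : Set H)

variable {Img : Set H → Prop}

theorem exists_gen (hH : IsZariskiGroup H) (hI : Geo Img) {F : Set H} (hF : (1 : H) ∈ F) (𝒬 : Set (Set H))
    (h𝒬 : ∀ Q ∈ 𝒬, Img Q ∧ IsIrreducible Q ∧ (1 : H) ∈ Q ∧ ∃ m, Q ⊆ pm F ^ m) :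
    ∃ N, IsClosed (Subgroup.closure (⋃₀ 𝒬) : Set H) ∧ IsIrreducible (Subgroup.closure (⋃₀ 𝒬) : Set H) ∧
      (Subgroup.closure (⋃₀ 𝒬) : Set H) ⊆ pm F ^ N := by
  let D := Subgroup.closure (⋃₀ 𝒬)
  let Ps : Set (Set H) := {P | Img P ∧ IsIrreducible P ∧ (1 : H) ∈ P ∧ P ⊆ D ∧ ∃ m, P ⊆ pm F ^ m}
  have hQP : ∀ Q ∈ 𝒬, Q ∈ Ps := fun Q hQ => ⟨(h𝒬 Q hQ).1, (h𝒬 Q hQ).2.1, (h𝒬 Q hQ).2.2.1,
    fun x hx => Subgroup.subset_closure ⟨Q, hQ, hx⟩, (h𝒬 Q hQ).2.2.2⟩
  have hone : ({1} : Set H) ∈ Ps := ⟨hI.singleton 1, isIrreducible_singleton, rfl,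
    Set.singleton_subset_iff.2 D.one_mem, 0, by simp⟩
  have hmul : ∀ P ∈ Ps, ∀ Q ∈ Ps, P * Q ∈ Ps := by
    rintro P ⟨hP, hPi, hP1, hPD, m, hPm⟩ Q ⟨hQ, hQi, hQ1, hQD, n, hQn⟩
    refine ⟨hI.mul P Q hP hQ, ⟨⟨1 * 1, Set.mul_mem_mul hP1 hQ1⟩, isPreirreducible_mul hH hPi.2 hQi.2⟩,
      ⟨1, hP1, 1, hQ1, one_mul 1⟩, ?_, m + n, ?_⟩
    · rintro _ ⟨p, hp, q, hq, rfl⟩
      exact D.mul_mem (hPD hp) (hQD hq)
    · rw [pow_add]
      exact Set.mul_subset_mul hPm hQn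
  have hinv : ∀ P ∈ Ps, P⁻¹ ∈ Ps := by
    rintro P ⟨hP, hPi, hP1, hPD, m, hPm⟩
    refine ⟨hI.inv P hP, ?_, by simpa using hP1, fun x hx => (Subgroup.inv_mem_iff D).1 (hPD hx), m, ?_⟩
    · rw [← Set.image_inv_eq_inv]
      exact hPi.image _ hH.inv.continuousOn
    · rw [← pm_inv F, inv_pow]
      exact Set.inv_subset_inv.2 hPm
  -- a product with maximal closure
  obtain ⟨P, hP, hmax⟩ : ∃ P ∈ Ps, ∀ R ∈ Ps, closure P ⊆ closure R → closure R = closure P := by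
    by_contra hno
    push Not at hno
    obtain ⟨d, hd⟩ := hI.dim
    have key : ∀ n : ℕ, ∃ l : LTSeries (IrreducibleCloseds H), l.length = n ∧
        ∃ P ∈ Ps, (l.last : Set H) = closure P := by
      intro n
      induction n with
      | zero =>
        exact ⟨RelSeries.singleton _ ⟨closure {1}, isIrreducible_singleton.closure, isClosed_closure⟩, rfl,
          _, hone, rfl⟩
      | succ n ih =>
        obtain ⟨l, hl, P, hP, hlP⟩ := ih
        obtain ⟨R, hR, hsub, hne⟩ := hno P hP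
        let C' : IrreducibleCloseds H := ⟨closure R, hR.2.1.closure, isClosed_closure⟩
        have hlt : l.last < C' := show (l.last : Set H) ⊂ closure R by
          rw [hlP]
          exact ⟨hsub, fun h => hne (h.antisymm hsub)⟩
        exact ⟨l.snoc C' hlt, by rw [RelSeries.snoc_length, hl], R, hR,
          congrArg SetLike.coe (RelSeries.last_snoc l C' hlt)⟩
    obtain ⟨l, hl, -⟩ := key (d + 1)
    have h := (Order.LTSeries.length_le_krullDim l).trans hd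
    have : l.length ≤ d := by exact_mod_cast h
    omega
  obtain ⟨hPI, hPi, hP1, hPD, m, hPm⟩ := id hP
  let C := closure P
  have hC1 : (1 : H) ∈ C := subset_closure hP1
  have hCR : ∀ R ∈ Ps, ∀ c ∈ C, ∀ r ∈ R, c * r ∈ C := by
    intro R hR c hc r hr
    have h := hmax (P * R) (hmul P hP R hR)
      (closure_mono fun p hp => ⟨p, hp, 1, hR.2.2.1, mul_one p⟩)
    rw [show C = closure (P * R) from h.symm]
    exact map_mem_closure (f := fun x => x * r) (hH.mul_right r) hc fun p hp => ⟨p, hp, r, hr, rfl⟩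
  have hCC : ∀ c ∈ C, ∀ c' ∈ C, c * c' ∈ C := fun c hc c' hc' => by
    have h := map_mem_closure (t := C) (hH.mul_left c) hc' fun p hp => hCR P hP c hc p hp
    rwa [show closure C = C from closure_closure] at h
  have hCinv : ∀ c ∈ C, c⁻¹ ∈ C := fun c hc => by
    have h := map_mem_closure (t := C) hH.inv hc fun p hp => by
      simpa using hCR _ (hinv P hP) 1 hC1 p⁻¹ (by simpa using hp)
    rwa [show closure C = C from closure_closure] at h
  let Cs : Subgroup H := { carrier := C, one_mem' := hC1, mul_mem' := fun ha hb => hCC _ ha _ hb, inv_mem' := fun ha => hCinv _ ha }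
  have hDC : D ≤ Cs := by
    refine (Subgroup.closure_le Cs).2 ?_
    rintro q ⟨Q, hQ, hq⟩
    have h := hCR Q (hQP Q hQ) 1 hC1 q hq
    rwa [one_mul] at h
  obtain ⟨U, hU, ⟨u₀, hu₀U, hu₀C⟩, hUP⟩ := hI.exists_open P hPI hPi
  have hCP : C ⊆ P * P := by
    intro x hx
    have hcont : Continuous fun y : H => x * y⁻¹ := (hH.mul_left x).comp hH.inv
    obtain ⟨y, hyC, hyV, hyU⟩ := hPi.closure.2 ((fun y : H => x * y⁻¹) ⁻¹' U) U (hU.preimage hcont) hU
      ⟨u₀⁻¹ * x, hCC _ (hCinv _ hu₀C) _ hx, by simpa [mul_inv_rev] using hu₀U⟩ ⟨u₀, hu₀C, hu₀U⟩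
    exact ⟨x * y⁻¹, hUP ⟨hyV, hCC _ hx _ (hCinv _ hyC)⟩, y, hUP ⟨hyU, hyC⟩, inv_mul_cancel_right x y⟩
  have hDeq : (D : Set H) = C := Set.Subset.antisymm hDC (hCP.trans (by
    rintro _ ⟨p, hp, q, hq, rfl⟩
    exact D.mul_mem (hPD hp) (hPD hq)))
  refine ⟨m + m, ?_, ?_, ?_⟩
  · show IsClosed (D : Set H)
    rw [hDeq]; exact isClosed_closure
  · show IsIrreducible (D : Set H)
    rw [hDeq]; exact hPi.closure
  · show (D : Set H) ⊆ _
    rw [hDeq, pow_add]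
    exact hCP.trans (Set.mul_subset_mul hPm hPm)

theorem bdd_of_eq {F : Set H} (hcl : IsClosed (Subgroup.closure F : Set H)) {N : ℕ}
    (h : (Subgroup.closure F : Set H) ⊆ pm F ^ N) : Bdd F :=
  ⟨N, (pm_pow_subset F N).antisymm h, hcl⟩

theorem one_mem_commSet (A B : Subgroup H) : (1 : H) ∈ commSet A B :=
  ⟨1, A.one_mem, 1, B.one_mem, commutatorElement_one_left 1⟩

/-- The commutators of an irreducible subgroup with any subgroup. -/
theorem bdd_commutator_of_irreducible (hH : IsZariskiGroup H) (hI : Geo Img) (A B : Subgroup H)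
    (hA : Img (A : Set H)) (hAi : IsIrreducible (A : Set H)) : Bdd (commSet A B) := by
  let 𝒬 : Set (Set H) := (fun b => (fun x => ⁅x, b⁆) '' (A : Set H)) '' (B : Set H)
  obtain ⟨N, hc, -, hN⟩ := exists_gen hH hI (one_mem_commSet A B) 𝒬 (by
    rintro _ ⟨b, hb, rfl⟩
    refine ⟨hI.comm _ b hA, hAi.image _ (hH.comm b).continuousOn, ⟨1, A.one_mem, commutatorElement_one_left b⟩, 1, ?_⟩
    rw [pow_one]
    rintro _ ⟨a, ha, rfl⟩
    exact Or.inl ⟨a, ha, b, hb, rfl⟩)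
  have he : ⋃₀ 𝒬 = commSet A B := by
    ext g
    constructor
    · rintro ⟨_, ⟨b, hb, rfl⟩, a, ha, rfl⟩
      exact ⟨a, ha, b, hb, rfl⟩
    · rintro ⟨a, ha, b, hb, rfl⟩
      exact ⟨_, ⟨b, hb, rfl⟩, a, ha, rfl⟩
  rw [he] at hc hN
  exact bdd_of_eq hc hN

/-- The neutral component of a closed subgroup. -/
theorem exists_neutral (hH : IsZariskiGroup H) (hI : Geo Img) (A : Subgroup H) (hA : Img (A : Set H))
    (hAc : IsClosed (A : Set H)) :
    ∃ A₀ : Subgroup H, A₀ ≤ A ∧ Img (A₀ : Set H) ∧ IsIrreducible (A₀ : Set H) ∧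
      (A.Normal → A₀.Normal) ∧ ∃ R : Set H, R.Finite ∧ R ⊆ A ∧ (A : Set H) ⊆ R * (A₀ : Set H) := by
  let 𝒬 : Set (Set H) := {Q | Q ⊆ (A : Set H) ∧ Img Q ∧ IsIrreducible Q ∧ (1 : H) ∈ Q}
  obtain ⟨N, hc, hirr, -⟩ := exists_gen hH hI (F := (A : Set H)) A.one_mem 𝒬
    (fun Q hQ => ⟨hQ.2.1, hQ.2.2.1, hQ.2.2.2, 1, by rw [pow_one]; exact hQ.1.trans Set.subset_union_left⟩)
  let A₀ := Subgroup.closure (⋃₀ 𝒬)
  have hle : A₀ ≤ A := (Subgroup.closure_le A).2 (Set.sUnion_subset fun Q hQ => hQ.1)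
  have hmax : ∀ Q ∈ 𝒬, Q ⊆ (A₀ : Set H) := fun Q hQ x hx => Subgroup.subset_closure ⟨Q, hQ, hx⟩
  have hImg : Img (A₀ : Set H) := by
    have := hI.inter _ (A₀ : Set H) hA hc
    rwa [Set.inter_eq_right.2 (show (A₀ : Set H) ⊆ A from hle)] at this
  refine ⟨A₀, hle, hImg, hirr, fun hn => ?_, ?_⟩
  · refine ⟨fun x hx g => ?_⟩
    refine hmax (({g} : Set H) * (A₀ : Set H) * {g⁻¹}) ⟨?_, hI.mul _ _ (hI.mul _ _ (hI.singleton g) hImg) (hI.singleton _),
      ⟨⟨g * 1 * g⁻¹, Set.mul_mem_mul (Set.mul_mem_mul rfl A₀.one_mem) rfl⟩,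
        isPreirreducible_mul hH (isPreirreducible_mul hH isPreirreducible_singleton hirr.2) isPreirreducible_singleton⟩,
      ⟨g, ⟨g, rfl, 1, A₀.one_mem, mul_one g⟩, g⁻¹, rfl, mul_inv_cancel g⟩⟩
      ⟨g * x, ⟨g, rfl, x, hx, rfl⟩, g⁻¹, rfl, rfl⟩
    rintro _ ⟨_, ⟨g', hg, a, ha, rfl⟩, g'', hg', rfl⟩
    cases hg
    cases hg'
    exact hn.conj_mem a (hle ha) g
  · haveI := hI.noeth _ hA
    obtain ⟨S, hSf, hSc, hSi, hSU⟩ := NoetherianSpace.exists_finite_set_isClosed_irreducible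
      (isClosed_univ (X := (A : Set H)))
    let pick : Set (A : Set H) → H := fun t => if h : t.Nonempty then (h.some : (A : Set H)) else 1
    refine ⟨pick '' S, hSf.image _, ?_, fun x hx => ?_⟩
    · rintro _ ⟨t, ht, rfl⟩
      simp only [pick, dif_pos (hSi t ht).nonempty]
      exact Subtype.property _
    · obtain ⟨t, ht, hxt⟩ : (⟨x, hx⟩ : (A : Set H)) ∈ ⋃₀ S := hSU ▸ Set.mem_univ _
      let z : H := ((hSi t ht).nonempty.some : (A : Set H))
      have hz : pick t = z := dif_pos (hSi t ht).nonempty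
      have hzA : z ∈ A := Subtype.property _
      obtain ⟨t', ht'c, ht'⟩ := isClosed_induced_iff.1 (hSc t ht)
      have hI' : Img (({z⁻¹} : Set H) * (Subtype.val '' t)) := by
        refine hI.mul _ _ (hI.singleton _) ?_
        have he : Subtype.val '' t = (A : Set H) ∩ t' := by rw [← ht', Subtype.image_preimage_coe]
        rw [he]
        exact hI.inter _ _ hA ht'c
      have hmem := hmax _ (show ({z⁻¹} : Set H) * (Subtype.val '' t) ∈ 𝒬 from ⟨by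
          rintro _ ⟨_, rfl, _, ⟨w, hw, rfl⟩, rfl⟩
          exact A.mul_mem (A.inv_mem hzA) w.2,
        hI', ⟨⟨z⁻¹ * z, z⁻¹, rfl, z, ⟨_, (hSi t ht).nonempty.some_mem, rfl⟩, rfl⟩, isPreirreducible_mul hH isPreirreducible_singleton
          (((hSi t ht).image _ continuous_subtype_val.continuousOn).2)⟩,
        ⟨z⁻¹, rfl, z, ⟨_, (hSi t ht).nonempty.some_mem, rfl⟩, inv_mul_cancel z⟩⟩) ⟨z⁻¹, rfl, x, ⟨⟨x, hx⟩, hxt, rfl⟩, rfl⟩
      exact ⟨z, ⟨t, ht, hz⟩, z⁻¹ * x, hmem, mul_inv_cancel_left z x⟩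

theorem isClosed_of_finite_cosets (hH : IsZariskiGroup H) {D₀ : Set H} (hD₀ : IsClosed D₀) {R : Set H} (hR : R.Finite) :
    IsClosed (R * D₀) := by
  rw [← Set.iUnion_mul_left_image]
  refine hR.isClosed_biUnion fun r _ => ?_
  have : (fun x => r * x) '' D₀ = (fun x => r⁻¹ * x) ⁻¹' D₀ := by
    ext x
    exact ⟨fun ⟨y, hy, e⟩ => by subst e; simpa using hy, fun h => ⟨r⁻¹ * x, h, mul_inv_cancel_left r x⟩⟩
  rw [this]
  exact hD₀.preimage (hH.mul_left _)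

/-- A subgroup covered by finitely many translates of a bounded closed set is bounded and closed. -/
theorem bdd_of_cosets (hH : IsZariskiGroup H) {F : Set H} (hF : (1 : H) ∈ F) {D₀ : Set H} (hD₀ : IsClosed D₀)
    (hD₀F : D₀ ⊆ (Subgroup.closure F : Set H)) {N₀ : ℕ} (hN₀ : D₀ ⊆ pm F ^ N₀) {R : Set H} (hR : R.Finite)
    (hRF : R ⊆ (Subgroup.closure F : Set H)) (h : (Subgroup.closure F : Set H) ⊆ R * D₀) : Bdd F := by
  choose! n hn using fun r (hr : r ∈ R) => exists_mem_pm_pow (hRF hr)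
  obtain ⟨M, hM⟩ := (hR.image n).bddAbove
  have he : (Subgroup.closure F : Set H) = R * D₀ := h.antisymm (by
    rintro _ ⟨r, hr, d, hd, rfl⟩
    exact mul_mem (hRF hr) (hD₀F hd))
  refine bdd_of_eq (he ▸ isClosed_of_finite_cosets hH hD₀ hR) (N := M + N₀) ?_
  rw [he, pow_add]
  exact Set.mul_subset_mul (fun r hr => pm_pow_mono hF (hM ⟨r, hr, rfl⟩) (hn r hr)) hN₀

/-- The commutators of two normal subgroups. -/
theorem bdd_commutator_of_normal (hH : IsZariskiGroup H) (hI : Geo Img) (A B : Subgroup H)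
    [A.Normal] [B.Normal] (hA : Img (A : Set H)) (hAc : IsClosed (A : Set H)) (hB : Img (B : Set H))
    (hBc : IsClosed (B : Set H)) : Bdd (commSet A B) := by
  obtain ⟨A₀, hA₀, hA₀I, hA₀i, hA₀n, RA, hRAf, hRA, hAcov⟩ := exists_neutral hH hI A hA hAc
  obtain ⟨B₀, hB₀, hB₀I, hB₀i, hB₀n, RB, hRBf, hRB, hBcov⟩ := exists_neutral hH hI B hB hBc
  haveI := hA₀n inferInstance
  haveI := hB₀n inferInstance
  have hF1 := one_mem_commSet A B
  let 𝒬 : Set (Set H) := ((fun b => (fun x => ⁅x, b⁆) '' (A₀ : Set H)) '' (B : Set H)) ∪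
    ((fun a => (fun x => ⁅x, a⁆) '' (B₀ : Set H)) '' (A : Set H))
  obtain ⟨N₀, hc₀, -, hN₀⟩ := exists_gen hH hI hF1 𝒬 (by
    rintro _ (⟨b, hb, rfl⟩ | ⟨a, ha, rfl⟩)
    · refine ⟨hI.comm _ b hA₀I, hA₀i.image _ (hH.comm b).continuousOn, ⟨1, A₀.one_mem, commutatorElement_one_left b⟩, 1, ?_⟩
      rw [pow_one]
      rintro _ ⟨x, hx, rfl⟩
      exact Or.inl ⟨x, hA₀ hx, b, hb, rfl⟩
    · refine ⟨hI.comm _ a hB₀I, hB₀i.image _ (hH.comm a).continuousOn, ⟨1, B₀.one_mem, commutatorElement_one_left a⟩, 1, ?_⟩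
      rw [pow_one]
      rintro _ ⟨x, hx, rfl⟩
      exact Or.inr (Set.mem_inv.2 ⟨a, ha, x, hB₀ hx, (commutatorElement_inv x a).symm⟩))
  have hD₀ : Subgroup.closure (⋃₀ 𝒬) = ⁅A₀, B⁆ ⊔ ⁅B₀, A⁆ := by
    refine le_antisymm ((Subgroup.closure_le _).2 ?_) (sup_le (Subgroup.commutator_le.2 fun x hx b hb => ?_)
      (Subgroup.commutator_le.2 fun x hx a ha => ?_))
    · rintro _ ⟨_, (⟨b, hb, rfl⟩ | ⟨a, ha, rfl⟩), x, hx, rfl⟩
      · exact Subgroup.mem_sup_left (Subgroup.commutator_mem_commutator hx hb)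
      · exact Subgroup.mem_sup_right (Subgroup.commutator_mem_commutator hx ha)
    · exact Subgroup.subset_closure ⟨_, Or.inl ⟨b, hb, rfl⟩, x, hx, rfl⟩
    · exact Subgroup.subset_closure ⟨_, Or.inr ⟨a, ha, rfl⟩, x, hx, rfl⟩
  rw [hD₀] at hc₀ hN₀
  let D₀ : Subgroup H := ⁅A₀, B⁆ ⊔ ⁅B₀, A⁆
  haveI : D₀.Normal := Subgroup.sup_normal _ _
  let π := QuotientGroup.mk' D₀
  haveI : (A.map π).Normal := Subgroup.Normal.map inferInstance π (QuotientGroup.mk'_surjective D₀)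
  haveI : (B.map π).Normal := Subgroup.Normal.map inferInstance π (QuotientGroup.mk'_surjective D₀)
  have hfinS : (commSet (A.map π) (B.map π)).Finite := by
    rw [image_commSet]
    refine ((hRAf.prod hRBf).image (fun p : H × H => π ⁅p.1, p.2⁆)).subset ?_
    rintro _ ⟨_, ⟨a, ha, b, hb, rfl⟩, rfl⟩
    obtain ⟨r, hr, a₀, ha₀, rfl⟩ := hAcov ha
    obtain ⟨s, hs, b₀, hb₀, rfl⟩ := hBcov hb
    have h1 : ∀ g h : H, h ∈ B → ∀ x ∈ A₀, π (g * ⁅x, h⁆ * g⁻¹) = 1 := fun g h hh x hx =>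
      (QuotientGroup.eq_one_iff _).2 (Subgroup.Normal.conj_mem inferInstance _
        (Subgroup.mem_sup_left (Subgroup.commutator_mem_commutator hx hh)) g)
    have h2 : ∀ g : H, π (g * ⁅r, b₀⁆ * g⁻¹) = 1 := fun g => by
      refine (QuotientGroup.eq_one_iff _).2 (Subgroup.Normal.conj_mem inferInstance _ ?_ g)
      rw [← commutatorElement_inv]
      exact inv_mem (Subgroup.mem_sup_right (Subgroup.commutator_mem_commutator hb₀ (hRA hr)))
    refine ⟨(r, s), ⟨hr, hs⟩, ?_⟩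
    have e : ⁅r * a₀, s * b₀⁆ = (r * ⁅a₀, s * b₀⁆ * r⁻¹) * (⁅r, s⁆ * (s * ⁅r, b₀⁆ * s⁻¹)) := by
      simp only [commutatorElement_def]; group
    show π ⁅r, s⁆ = π ⁅r * a₀, s * b₀⁆
    rw [e, map_mul, map_mul π ⁅r, s⁆, h1 r _ hb a₀ ha₀, h2 s, one_mul, mul_one]
  have hfin := finite_commutator (A.map π) (B.map π) hfinS
  have hmap : ⁅A.map π, B.map π⁆ = (⁅A, B⁆).map π := (Subgroup.map_commutator A B π).symm
  rw [hmap] at hfin
  let lift : H ⧸ D₀ → H := fun q => if h : q ∈ (⁅A, B⁆).map π then h.choose else 1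
  have hlift : ∀ x ∈ ⁅A, B⁆, lift (π x) ∈ ⁅A, B⁆ ∧ π (lift (π x)) = π x := fun x hx => by
    have h := Subgroup.mem_map_of_mem π hx
    simp only [lift, dif_pos h]
    exact h.choose_spec
  have hD : (D₀ : Set H) ⊆ (⁅A, B⁆ : Subgroup H) := by
    intro x hx
    exact (sup_le (Subgroup.commutator_mono hA₀ le_rfl) ((Subgroup.commutator_comm B₀ A).trans_le
      (Subgroup.commutator_mono le_rfl hB₀)) : D₀ ≤ ⁅A, B⁆) hx
  refine bdd_of_cosets hH hF1 hc₀ (commutator_eq_closure A B ▸ hD) hN₀ (hfin.image lift) ?_ ?_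
  · rintro _ ⟨_, ⟨x, hx, rfl⟩, rfl⟩
    exact commutator_eq_closure A B ▸ (hlift x hx).1
  · rw [← commutator_eq_closure]
    intro x hx
    refine ⟨lift (π x), ⟨π x, Subgroup.mem_map_of_mem π hx, rfl⟩, (lift (π x))⁻¹ * x, ?_, mul_inv_cancel_left _ x⟩
    exact (QuotientGroup.eq).1 (hlift x hx).2

/-- A chain of irreducible pieces. -/
theorem bdd_of_pieces (hH : IsZariskiGroup H) (hI : Geo Img) {F : Set H} (hF : (1 : H) ∈ F) (𝒵 : Set (Set H))
    (h𝒵 : ∀ Z ∈ 𝒵, Z ⊆ F ∧ Img Z ∧ IsIrreducible Z)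
    (hchain : ∀ D : Subgroup H, (∀ Z ∈ 𝒵, ∀ x ∈ Z, ∀ y ∈ Z, x * y⁻¹ ∈ D) → F ⊆ D) : Bdd F := by
  let 𝒬 : Set (Set H) := {Q | ∃ Z ∈ 𝒵, ∃ y ∈ Z, Q = Z * {y⁻¹}}
  obtain ⟨N, hc, -, hN⟩ := exists_gen hH hI hF 𝒬 (by
    rintro _ ⟨Z, hZ, y, hy, rfl⟩
    obtain ⟨hZF, hZI, hZi⟩ := h𝒵 Z hZ
    refine ⟨hI.mul _ _ hZI (hI.singleton _), ⟨⟨y * y⁻¹, y, hy, y⁻¹, rfl, rfl⟩, isPreirreducible_mul hH hZi.2 isPreirreducible_singleton⟩,
      ⟨y, hy, y⁻¹, rfl, mul_inv_cancel y⟩, 2, ?_⟩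
    rw [pow_two]
    exact Set.mul_subset_mul (hZF.trans Set.subset_union_left)
      (Set.singleton_subset_iff.2 (Or.inr (by simpa using hZF hy))))
  have he : Subgroup.closure F = Subgroup.closure (⋃₀ 𝒬) := by
    refine le_antisymm ((Subgroup.closure_le _).2 (hchain _ fun Z hZ x hx y hy =>
      Subgroup.subset_closure ⟨_, ⟨Z, hZ, y, hy, rfl⟩, x, hx, y⁻¹, rfl, rfl⟩)) ((Subgroup.closure_le _).2 ?_)
    rintro _ ⟨_, ⟨Z, hZ, y, hy, rfl⟩, x, hx, _, rfl, rfl⟩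
    exact mul_mem (Subgroup.subset_closure ((h𝒵 Z hZ).1 hx)) (inv_mem (Subgroup.subset_closure ((h𝒵 Z hZ).1 hy)))
  rw [← he] at hc hN
  exact bdd_of_eq hc hN

end Groth.Sga3.BddGen
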