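import Groth.Agent.GenSub.Word
import Groth.Agent.Sga3.BddGen.Abstract

/-!
Words in a morphism to a group scheme, as products.
-/

set_option autoImplicit false
set_option backward.isDefEq.respectTransparency false

universe u

open CategoryTheory CategoryTheory.Limits MonoidalCategory CartesianMonoidalCategory MonObj GrpObj AlgebraicGeometry
open scoped Pointwise

noncomputable section

namespace Groth.Sga3.BddGen

variable {S : Scheme.{u}} {G X T : Over S} [GrpObj G]

/-- A word, as a product. -/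
def wordProd (f : X ⟶ G) {n : ℕ} (x : Fin n → (T ⟶ X)) (ε : Fin n → Bool) : T ⟶ G :=
  (List.ofFn fun j : Fin n => if ε j then x j ≫ f else (x j ≫ f)⁻¹).prod

theorem wordProd_factor {Γ : Over S} [GrpObj Γ] (i : Γ ⟶ G) [IsMonHom i] (f' : X ⟶ Γ) (f : X ⟶ G) (hf : f' ≫ i = f)
    {n : ℕ} (x : Fin n → (T ⟶ X)) (ε : Fin n → Bool) : ∃ t : T ⟶ Γ, t ≫ i = wordProd f x ε := by
  let φ : (T ⟶ Γ) →* (T ⟶ G) := MonoidHom.mk' (fun t => t ≫ i) fun a b => MonObj.mul_comp a b i
  refine ⟨wordProd f' x ε, ?_⟩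
  show φ _ = _
  rw [wordProd, map_list_prod, List.map_ofFn, wordProd]
  congr 1
  refine congrArg List.ofFn (funext fun j => ?_)
  simp only [Function.comp_apply]
  subst hf
  split <;> simp [φ, GrpObj.inv_comp]

theorem range_wordProd_subset {Γ : Over S} [GrpObj Γ] (i : Γ ⟶ G) [IsMonHom i] (f : X ⟶ G)
    (hf : ∃ f' : X ⟶ Γ, f' ≫ i = f) {n : ℕ} (x : Fin n → (T ⟶ X)) (ε : Fin n → Bool) :
    Set.range (wordProd f x ε).left.base ⊆ Set.range i.left.base := by
  obtain ⟨f', hf⟩ := hf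
  obtain ⟨t, ht⟩ := wordProd_factor i f' f hf x ε
  rintro _ ⟨p, rfl⟩
  rw [← ht]
  exact ⟨_, (Scheme.Hom.comp_apply _ _ _).symm⟩

theorem comp_wordProd {T' : Over S} (f : X ⟶ G) (t : T' ⟶ T) {n : ℕ} (x : Fin n → (T ⟶ X)) (ε : Fin n → Bool) :
    t ≫ wordProd f x ε = wordProd f (fun j => t ≫ x j) ε := by
  let φ : (T ⟶ G) →* (T' ⟶ G) := MonoidHom.mk' (fun a => t ≫ a) fun a b => MonObj.comp_mul _ _ _
  show φ _ = _
  rw [wordProd, map_list_prod, List.map_ofFn, wordProd]
  congr 1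
  refine congrArg List.ofFn (funext fun j => ?_)
  simp only [Function.comp_apply]
  split <;> simp [φ, GrpObj.comp_inv]

theorem wordProd_snoc (f : X ⟶ G) {n : ℕ} (x : Fin n → (T ⟶ X)) (ε : Fin n → Bool) (y : T ⟶ X) :
    wordProd f (Fin.snoc x y : Fin (n + 1) → (T ⟶ X)) (Fin.snoc ε true : Fin (n + 1) → Bool) =
      wordProd f x ε * (y ≫ f) := by
  rw [wordProd, wordProd, List.ofFn_succ', List.concat_eq_append, List.prod_append]
  simp

/-- An element of a power of the values of a morphism and their inverses is the value of a word. -/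
theorem exists_wordProd_of_mem_pow (f : X ⟶ G) {n : ℕ} {g : T ⟶ G}
    (hg : g ∈ pm (Set.range fun x : T ⟶ X => x ≫ f) ^ n) :
    ∃ (x : Fin n → (T ⟶ X)) (ε : Fin n → Bool), wordProd f x ε = g := by
  obtain ⟨c, rfl⟩ := Set.mem_pow.1 hg
  have h : ∀ j, ∃ (x : T ⟶ X) (β : Bool), (if β then x ≫ f else (x ≫ f)⁻¹) = (c j : T ⟶ G) := fun j => by
    rcases (c j).2 with ⟨x, hx⟩ | ⟨x, hx⟩
    · exact ⟨x, true, by simpa using hx⟩
    · exact ⟨x, false, by simp only [Bool.false_eq_true, if_false]; exact inv_eq_iff_eq_inv.2 hx⟩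
  choose x β hx using h
  exact ⟨x, β, congrArg List.prod (congrArg List.ofFn (funext hx))⟩

end Groth.Sga3.BddGen
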