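import Groth.Agent.Sga3.BddGen.Main
import Groth.Agent.Sga3.BddGen.WordPts
import Groth.Agent.GrpschAbsch.FibreFlat
import Groth.Agent.DescentBase.UnivOpenField
import Groth.Prelude.Def_ActBC

/-!
The set of points of a generated subgroup scheme over any field, from bounded generation over an
algebraically closed extension.
-/

set_option autoImplicit false
set_option backward.isDefEq.respectTransparency false
set_option linter.style.haveILetI false

universe u

open CategoryTheory CategoryTheory.Limits MonoidalCategory CartesianMonoidalCategory MonObj GrpObj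
  AlgebraicGeometry TopologicalSpace Topology
open scoped commutatorElement Pointwise

noncomputable section

namespace Groth.Sga3.BddGen

open Groth.Sga3.Solvable Groth.AlgGrp1

attribute [local instance] ptsTopology

variable {S : Scheme.{u}} {K : Type u} [Field K] (t : Spec (CommRingCat.of K) ⟶ S)

/-- The source of a geometric point. -/
abbrev tp : Over S := (Over.map t).obj (specAlg K K)

/-- Points at a geometric point as rational points of the base change. -/
def toPt {X : Over S} (x : tp t ⟶ X) : specAlg K K ⟶ Red.bc t X := (Over.mapPullbackAdj t).homEquiv _ X x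

theorem toPt_surjective {X : Over S} : Function.Surjective (toPt t (X := X)) := Equiv.surjective _

theorem toPt_comp {X Y : Over S} (x : tp t ⟶ X) (f : X ⟶ Y) :
    toPt t (x ≫ f) = toPt t x ≫ (Over.pullback t).map f := Adjunction.homEquiv_naturality_right _ _ _

/-- The same for a group scheme. -/
def rho (G : Over S) [GrpObj G] : (tp t ⟶ G) ≃* Pts (Red.bc t G) where
  toEquiv := (Over.mapPullbackAdj t).homEquiv _ G
  map_mul' x y := AlgGrp.Action.homEquiv_mul (f := t) x y

theorem fst_toPt {X : Over S} (x : tp t ⟶ X) : (toPt t x).left ≫ pullback.fst X.hom t = x.left := by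
  show ((Over.mapPullbackAdj t).homEquiv (specAlg K K) X x).left ≫ _ = _
  rw [Adjunction.homEquiv_unit, Over.comp_left, Category.assoc]
  erw [pullback.lift_fst]
  rw [← Category.assoc]
  erw [pullback.lift_fst]
  exact Category.id_comp _

variable {G : Over S} [GrpObj G]

theorem rho_comp {X : Over S} (x : tp t ⟶ X) (f : X ⟶ G) : rho t G (x ≫ f) = toPt t x ≫ (Over.pullback t).map f :=
  toPt_comp t x f

theorem imgSet_map {X : Over S} (f : X ⟶ G) :
    imgSet ((Over.pullback t).map f) = rho t G '' Set.range (fun x : tp t ⟶ X => x ≫ f) := by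
  rw [← Set.range_comp, imgSet]
  ext g
  constructor
  · rintro ⟨y, rfl⟩
    obtain ⟨x, rfl⟩ := toPt_surjective t y
    exact ⟨x, rho_comp t x f⟩
  · rintro ⟨x, rfl⟩
    exact ⟨toPt t x, (rho_comp t x f).symm⟩

theorem rho_wordProd {X : Over S} (f : X ⟶ G) {n : ℕ} (x : Fin n → (tp t ⟶ X)) (ε : Fin n → Bool) :
    rho t G (wordProd f x ε) = wordProd ((Over.pullback t).map f) (fun j => toPt t (x j)) ε := by
  rw [wordProd, map_list_prod, List.map_ofFn, wordProd]
  congr 1
  refine congrArg List.ofFn (funext fun j => ?_)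
  simp only [Function.comp_apply]
  split <;> simp [rho_comp]

theorem comp_wordMap_mem {k : Type u} [Field k] {G X T : Over (Spec (CommRingCat.of k))} [GrpObj G] (f : X ⟶ G) :
    ∀ (l : List Bool) (x : T ⟶ GenSub.word X l),
      x ≫ GenSub.wordMap f l ∈ Subgroup.closure (Set.range fun y : T ⟶ X => y ≫ f)
  | [] => fun x => by simp [GenSub.wordMap]
  | b :: l => fun x => by
      have h1 : (x ≫ fst X (GenSub.word X l)) ≫ f ∈ Subgroup.closure (Set.range fun y : T ⟶ X => y ≫ f) :=
        Subgroup.subset_closure ⟨_, rfl⟩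
      have h2 := comp_wordMap_mem f l (x ≫ snd X (GenSub.word X l))
      have : x ≫ GenSub.wordMap f (b :: l) = ((x ≫ fst X (GenSub.word X l)) ≫ if b then f else f⁻¹) *
          ((x ≫ snd X (GenSub.word X l)) ≫ GenSub.wordMap f l) := by
        show x ≫ ((fst X (GenSub.word X l) ≫ if b then f else f⁻¹) * (snd X (GenSub.word X l) ≫ GenSub.wordMap f l)) = _
        rw [MonObj.comp_mul, Category.assoc, Category.assoc]
      rw [this]
      refine mul_mem ?_ h2
      cases b
      · simp only [Bool.false_eq_true, if_false, GrpObj.comp_inv]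
        exact inv_mem h1
      · simpa using h1

theorem lft_word' {k : Type u} [Field k] {X : Over (Spec (CommRingCat.of k))} [LocallyOfFiniteType X.hom] :
    ∀ l : List Bool, LocallyOfFiniteType (GenSub.word X l).hom
  | [] => inferInstanceAs (LocallyOfFiniteType (𝟙 _))
  | _ :: l => by
      have := lft_word' (X := X) l
      exact inferInstanceAs (LocallyOfFiniteType (pullback.fst X.hom (GenSub.word X l).hom ≫ X.hom))

/-- Finite powers. -/
theorem exists_power_qc (X : Over S) [LocallyOfFiniteType X.hom] [QuasiCompact X.hom] (n : ℕ) :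
    ∃ (Q : Over S) (π : Fin n → (Q ⟶ X)), LocallyOfFiniteType Q.hom ∧ QuasiCompact Q.hom ∧
      ∀ (T : Over S) (x : Fin n → (T ⟶ X)), ∃ t : T ⟶ Q, ∀ j, t ≫ π j = x j := by
  induction n with
  | zero =>
    exact ⟨𝟙_ _, Fin.elim0, inferInstanceAs (LocallyOfFiniteType (𝟙 _)), inferInstanceAs (QuasiCompact (𝟙 _)),
      fun T x => ⟨toUnit T, fun j => j.elim0⟩⟩
  | succ n ih =>
    obtain ⟨Q, π, hQ, hQ', h⟩ := ih
    refine ⟨X ⊗ Q, Fin.cons (fst X Q) (fun j => snd X Q ≫ π j),
      inferInstanceAs (LocallyOfFiniteType (pullback.fst X.hom Q.hom ≫ X.hom)),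
      inferInstanceAs (QuasiCompact (pullback.fst X.hom Q.hom ≫ X.hom)), fun T x => ?_⟩
    obtain ⟨t, ht⟩ := h T (fun j => x j.succ)
    refine ⟨lift (x 0) t, fun j => Fin.cases ?_ (fun i => ?_) j⟩
    · simp
    · simp [ht i]

/-- The points lying under words of a given length. -/
def wordPts {X : Over S} (f : X ⟶ G) (N : ℕ) : Set G.left :=
  {g | ∃ (T : Over S) (p : T.left) (x : Fin N → (T ⟶ X)) (ε : Fin N → Bool), (wordProd f x ε).left.base p = g}

theorem wordPts_eq {X : Over S} (f : X ⟶ G) {N : ℕ} {Q : Over S} (π : Fin N → (Q ⟶ X))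
    (hQ : ∀ (T : Over S) (x : Fin N → (T ⟶ X)), ∃ t : T ⟶ Q, ∀ j, t ≫ π j = x j) :
    wordPts f N = ⋃ ε : Fin N → Bool, Set.range (wordProd f π ε).left.base := by
  ext g
  constructor
  · rintro ⟨T, p, x, ε, rfl⟩
    obtain ⟨s, hs⟩ := hQ T x
    have : s ≫ wordProd f π ε = wordProd f x ε := by rw [comp_wordProd]; simp only [hs]
    exact Set.mem_iUnion.2 ⟨ε, s.left.base p, by rw [← this]; exact (Scheme.Hom.comp_apply _ _ _).symm⟩
  · intro h
    obtain ⟨ε, q, rfl⟩ := Set.mem_iUnion.1 h
    exact ⟨Q, q, π, ε, rfl⟩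

/-- A point outside a constructible set lies in a locally closed set outside it. -/
theorem exists_locallyClosed_of_notMem {Y : Type u} [TopologicalSpace Y] {W : Set Y} (hW : IsLocallyConstructible W)
    {g : Y} (hg : g ∉ W) : ∃ L : Set Y, g ∈ L ∧ IsLocallyClosed L ∧ Disjoint L W := by
  obtain ⟨U, hgU, hU, hc⟩ := hW g
  obtain ⟨n, Z, hZ, hZU⟩ := Groth.SpectralTopology.exists_isLocallyClosed_pieces hc.compl
  have hgZ : (⟨g, mem_of_mem_nhds hgU⟩ : U) ∈ ⋃ i, Z i := hZU ▸ hg
  obtain ⟨i, hi⟩ := Set.mem_iUnion.1 hgZ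
  refine ⟨Subtype.val '' Z i, ⟨_, hi, rfl⟩,
    (hZ i).image IsInducing.subtypeVal (by rw [Subtype.range_coe]; exact hU.isLocallyClosed), ?_⟩
  rw [Set.disjoint_left]
  rintro _ ⟨z, hz, rfl⟩ hzW
  exact (hZU.symm ▸ Set.mem_iUnion.2 ⟨i, hz⟩ : z ∈ (Subtype.val ⁻¹' W : Set U)ᶜ) hzW

section

variable {k : Type u} [Field k] [IsAlgClosed K] (φ : Spec (CommRingCat.of K) ⟶ Spec (CommRingCat.of k))
  {G : Over (Spec (CommRingCat.of k))} [GrpObj G] [LocallyOfFiniteType G.hom]

/-- The points of the generated subgroup are those under words of bounded length. -/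
theorem range_eq_wordPts {X : Over (Spec (CommRingCat.of k))} [LocallyOfFiniteType X.hom] [QuasiCompact X.hom]
    [GeometricallyReduced X.hom] (f : X ⟶ G) (hbdd : Bdd (imgSet ((Over.pullback φ).map f)))
    (Γ : Over (Spec (CommRingCat.of k))) [GrpObj Γ] (i : Γ ⟶ G) [IsMonHom i] [IsClosedImmersion i.left]
    (hf : ∃ f' : X ⟶ Γ, f' ≫ i = f)
    (hmin : ∀ (Γ' : Over (Spec (CommRingCat.of k))) (_ : GrpObj Γ') (i' : Γ' ⟶ G), IsMonHom i' → IsClosedImmersion i'.left →
        (∃ f'' : X ⟶ Γ', f'' ≫ i' = f) → ∃ j : Γ ⟶ Γ', j ≫ i' = i) :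
    ∃ N : ℕ, Set.range i.left.base = wordPts f N := by
  obtain ⟨N, hN, hcl⟩ := hbdd
  refine ⟨N, Set.Subset.antisymm ?_ ?_⟩
  swap
  · rintro g ⟨T, p, x, ε, rfl⟩
    exact range_wordProd_subset i f hf x ε ⟨p, rfl⟩
  obtain ⟨Γ₀, _, i₀, d, hmon, hc, -, hd, hdense, hf₀, -⟩ := GenSub.exists_generated f
  obtain ⟨j, hj⟩ := hmin Γ₀ inferInstance i₀ inferInstance hc hf₀
  suffices h : Set.range i₀.left.base ⊆ wordPts f N by
    rintro _ ⟨z, rfl⟩
    exact h ⟨j.left.base z, by rw [← Scheme.Hom.comp_apply, ← Over.comp_left, hj]⟩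
  haveI : LocallyOfFiniteType Γ₀.hom := by rw [← Over.w i₀]; infer_instance
  haveI : LocallyOfFiniteType (Red.bc φ G).hom := inferInstanceAs (LocallyOfFiniteType (pullback.snd G.hom φ))
  haveI : LocallyOfFiniteType (Red.bc φ Γ₀).hom := inferInstanceAs (LocallyOfFiniteType (pullback.snd Γ₀.hom φ))
  -- rational points of the base change are bounded words
  have hwords : imgSet ((Over.pullback φ).map i₀) ⊆ pm (imgSet ((Over.pullback φ).map f)) ^ N := by
    rw [hN]
    haveI := Groth.DescentBase.universallyOpen_of_field k φ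
    have hopen : IsOpenMap (pullback.fst Γ₀.hom φ).base := by
      haveI : UniversallyOpen (pullback.fst Γ₀.hom φ) := MorphismProperty.pullback_fst _ _ inferInstance
      exact (pullback.fst Γ₀.hom φ).isOpenMap
    refine imgSet_subset_of_dense _ (W := fun l => Red.bc φ (GenSub.word X l)) (fun l => ?_)
      (fun l => (Over.pullback φ).map (d l)) ?_ hcl fun l => ?_
    · haveI := lft_word' (X := X) l
      exact inferInstanceAs (LocallyOfFiniteType (pullback.snd (GenSub.word X l).hom φ))
    · refine (hdense.preimage hopen).mono ?_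
      intro z hz
      obtain ⟨l, w, hw⟩ := Set.mem_iUnion.1 (show (pullback.fst Γ₀.hom φ).base z ∈ _ from hz)
      obtain ⟨q, -, hq⟩ := Scheme.exists_preimage_of_isPullback (Groth.GrpschAbsch.FibreFlat.isPullback_map φ (d l)) w z hw
      exact Set.mem_iUnion.2 ⟨l, q, hq⟩
    · rw [← Functor.map_comp, hd, imgSet_map, imgSet_map, ← MulEquiv.coe_toMonoidHom,
        ← MonoidHom.map_closure, Subgroup.coe_map]
      refine Set.image_mono ?_
      rintro _ ⟨x, rfl⟩
      exact comp_wordMap_mem f l x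
  -- constructible images
  obtain ⟨Q, π, hQ, hQ', hu⟩ := exists_power_qc X N
  rintro g ⟨z, rfl⟩
  by_contra hg
  rw [wordPts_eq f π hu] at hg
  have hlc : IsLocallyConstructible (⋃ ε : Fin N → Bool, Set.range (wordProd f π ε).left.base) := by
    haveI : IsLocallyNoetherian G.left := LocallyOfFiniteType.isLocallyNoetherian G.hom
    refine IsLocallyConstructible.iUnion fun ε => ?_
    let w := (wordProd f π ε).left
    haveI : LocallyOfFiniteType w := by
      have : LocallyOfFiniteType (w ≫ G.hom) := by rw [Over.w (wordProd f π ε)]; infer_instance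
      exact locallyOfFiniteType_of_comp w G.hom
    haveI : LocallyOfFinitePresentation w := LocallyOfFinitePresentation.iff_locallyOfFiniteType.2 inferInstance
    haveI : QuasiCompact w := by
      have : QuasiCompact (w ≫ G.hom) := by rw [Over.w (wordProd f π ε)]; infer_instance
      exact QuasiCompact.of_comp w G.hom
    rw [← Set.image_univ]
    exact w.isLocallyConstructible_image IsConstructible.univ.isLocallyConstructible
  obtain ⟨L, hgL, hL, hdisj⟩ := exists_locallyClosed_of_notMem hlc hg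
  let p : (Red.bc φ Γ₀).left ⟶ G.left := pullback.fst Γ₀.hom φ ≫ i₀.left
  haveI : Surjective φ := ⟨fun x => ⟨IsLocalRing.closedPoint K, Subsingleton.elim (α := PrimeSpectrum k) _ _⟩⟩
  obtain ⟨z', hz'⟩ := (pullback.fst Γ₀.hom φ).surjective z
  obtain ⟨y, hy⟩ := exists_pt (X := Red.bc φ Γ₀) (Z := p.base ⁻¹' L) ⟨z', by
      show p.base z' ∈ L
      refine Set.mem_of_eq_of_mem (Scheme.Hom.comp_apply _ _ _) ?_
      exact Set.mem_of_eq_of_mem (congrArg i₀.left.base hz') hgL⟩
    (hL.preimage p.continuous)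
  obtain ⟨x, ε, hxy⟩ := exists_wordProd_of_mem_pow _ (hwords ⟨y, rfl⟩)
  choose x' hx' using fun i => toPt_surjective φ (x i)
  have h1 : rho φ G (wordProd f x' ε) = y ≫ (Over.pullback φ).map i₀ := by
    rw [rho_wordProd, funext hx', hxy]
  refine Set.disjoint_left.1 hdisj hy ?_
  rw [← wordPts_eq f π hu]
  refine ⟨tp φ, IsLocalRing.closedPoint K, x', ε, ?_⟩
  have h2 : (rho φ G (wordProd f x' ε)).left ≫ pullback.fst G.hom φ = (wordProd f x' ε).left :=
    fst_toPt φ (wordProd f x' ε)
  rw [← h2, h1]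
  show (((y.left ≫ ((Over.pullback φ).map i₀).left) ≫ pullback.fst G.hom φ)).base _ = p.base (y.left.base _)
  rw [Category.assoc, show ((Over.pullback φ).map i₀).left ≫ pullback.fst G.hom φ = p from pullback.lift_fst _ _ _]
  exact Scheme.Hom.comp_apply _ _ _

end

end Groth.Sga3.BddGen
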