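import Groth.Agent.Sga3.BddGen.Abstract
import Groth.Agent.Sga3.Solvable.Points
import Groth.Agent.SpectralTopology.Constructible
import Groth.Agent.FibreDim.GroupScheme
import Groth.Agent.BMCoh.Piece
import Mathlib.AlgebraicGeometry.Morphisms.FinitePresentation

/-!
The rational points of the images of schemes of finite type in a group scheme over an algebraically
closed field.
-/

set_option autoImplicit false
set_option backward.isDefEq.respectTransparency false
set_option linter.style.haveILetI false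

universe u

open CategoryTheory CategoryTheory.Limits MonoidalCategory CartesianMonoidalCategory MonObj GrpObj
  AlgebraicGeometry TopologicalSpace Topology
open scoped commutatorElement Pointwise

noncomputable section

namespace Groth.Sga3.BddGen

open Groth.Sga3.Solvable Groth.AlgGrp1

variable {K : Type u} [Field K] [IsAlgClosed K]

attribute [local instance] ptsTopology

/-- The image of the rational points of a scheme. -/
def imgSet {X G : Over (Spec (CommRingCat.of K))} (w : X ⟶ G) : Set (specAlg K K ⟶ G) :=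
  Set.range fun x : specAlg K K ⟶ X => x ≫ w

/-- Sets of rational points which are images of schemes of finite type. -/
def Img (G : Over (Spec (CommRingCat.of K))) (P : Set (specAlg K K ⟶ G)) : Prop :=
  ∃ (X : Over (Spec (CommRingCat.of K))) (_ : LocallyOfFiniteType X.hom) (_ : QuasiCompact X.hom) (w : X ⟶ G),
    P = imgSet w

theorem exists_pt {X : Over (Spec (CommRingCat.of K))} [LocallyOfFiniteType X.hom] {Z : Set X.left}
    (hne : Z.Nonempty) (hZ : IsLocallyClosed Z) :
    ∃ x : specAlg K K ⟶ X, x.left.base (IsLocalRing.closedPoint K) ∈ Z := by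
  have : JacobsonSpace X.left := LocallyOfFiniteType.jacobsonSpace X.hom
  obtain ⟨q, hq, hc⟩ := nonempty_inter_closedPoints hne hZ
  obtain ⟨x, hx⟩ := exists_point_over_closed K X q hc
  exact ⟨x, hx ▸ hq⟩

theorem pt_ext {X : Over (Spec (CommRingCat.of K))} [LocallyOfFiniteType X.hom] {x y : specAlg K K ⟶ X}
    (h : x.left.base (IsLocalRing.closedPoint K) = y.left.base (IsLocalRing.closedPoint K)) : x = y :=
  Over.OverMorphism.ext (ext_of_apply_closedPoint_eq (f := x.left) (g := y.left) X.hom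
    ((Over.w x).trans (by show Spec.map _ = 𝟙 _; rw [Algebra.algebraMap_self]; exact Spec.map_id _))
    ((Over.w y).trans (by show Spec.map _ = 𝟙 _; rw [Algebra.algebraMap_self]; exact Spec.map_id _)) h)

theorem isClosed_pt {X : Over (Spec (CommRingCat.of K))} [LocallyOfFiniteType X.hom] (x : specAlg K K ⟶ X) :
    IsClosed {x.left.base (IsLocalRing.closedPoint K)} :=
  (pointEquivClosedPoint X.hom
    ⟨x.left, (Over.w x).trans (by show Spec.map _ = 𝟙 _; rw [Algebra.algebraMap_self]; exact Spec.map_id _)⟩).2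

/-- A rational point of the image comes from a rational point. -/
theorem exists_pt_image {X G : Over (Spec (CommRingCat.of K))} [LocallyOfFiniteType X.hom]
    [LocallyOfFiniteType G.hom] (w : X ⟶ G) {g : specAlg K K ⟶ G}
    (h : g.left.base (IsLocalRing.closedPoint K) ∈ Set.range w.left.base) : g ∈ imgSet w := by
  obtain ⟨q, hq⟩ := h
  obtain ⟨x, hx⟩ := exists_pt (X := X) (Z := w.left.base ⁻¹' {g.left.base (IsLocalRing.closedPoint K)}) ⟨q, hq⟩
    ((isClosed_pt g).preimage w.left.continuous).isLocallyClosed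
  exact ⟨x, pt_ext ((Scheme.Hom.comp_apply _ _ _).trans hx)⟩

/-- A closed subset as a reduced subscheme. -/
theorem exists_closedSub {X : Over (Spec (CommRingCat.of K))} [LocallyOfFiniteType X.hom] [QuasiCompact X.hom]
    {Z : Set X.left} (hZ : IsClosed Z) :
    ∃ (Y : Over (Spec (CommRingCat.of K))) (_ : LocallyOfFiniteType Y.hom) (_ : QuasiCompact Y.hom) (j : Y ⟶ X),
      IsReduced Y.left ∧ IsClosedImmersion j.left ∧ Set.range j.left = Z ∧
      imgSet j = {x | x.left.base (IsLocalRing.closedPoint K) ∈ Z} := by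
  let J := Scheme.IdealSheafData.vanishingIdeal (⟨Z, hZ⟩ : Closeds X.left)
  let Y : Over (Spec (CommRingCat.of K)) := Over.mk (J.subschemeι ≫ X.hom)
  let j : Y ⟶ X := Over.homMk J.subschemeι rfl
  have hlf : LocallyOfFiniteType Y.hom := inferInstanceAs (LocallyOfFiniteType (J.subschemeι ≫ X.hom))
  have hqc : QuasiCompact Y.hom := inferInstanceAs (QuasiCompact (J.subschemeι ≫ X.hom))
  have hr : Set.range j.left = Z := J.range_subschemeι.trans (Scheme.IdealSheafData.coe_support_vanishingIdeal _)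
  refine ⟨Y, hlf, hqc, j, Groth.BMCohLib.isReduced_vanishingIdeal (⟨Z, hZ⟩ : Closeds X.left),
    inferInstanceAs (IsClosedImmersion J.subschemeι), hr, ?_⟩
  ext x
  constructor
  · rintro ⟨y, rfl⟩
    exact hr.le ⟨_, (Scheme.Hom.comp_apply _ _ _).symm⟩
  · intro hx
    exact exists_pt_image j (hr.ge hx)

/-- The rational points of an irreducible closed set are irreducible. -/
theorem isIrreducible_imgSet {X G : Over (Spec (CommRingCat.of K))} [LocallyOfFiniteType X.hom]
    (w : X ⟶ G) {Z : Set X.left} (hZc : IsClosed Z) (hZ : IsIrreducible Z) :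
    @IsIrreducible (specAlg K K ⟶ G) (TopologicalSpace.induced (fun g => g.left.base (IsLocalRing.closedPoint K)) inferInstance)
      ((fun x : specAlg K K ⟶ X => x ≫ w) '' {x | x.left.base (IsLocalRing.closedPoint K) ∈ Z}) := by
  letI : TopologicalSpace (specAlg K K ⟶ G) :=
    TopologicalSpace.induced (fun g => g.left.base (IsLocalRing.closedPoint K)) inferInstance
  obtain ⟨x, hx⟩ := exists_pt hZ.nonempty hZc.isLocallyClosed
  refine ⟨⟨_, x, hx, rfl⟩, ?_⟩
  rintro U V hU hV ⟨_, ⟨a, ha, rfl⟩, haU⟩ ⟨_, ⟨b, hb, rfl⟩, hbV⟩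
  obtain ⟨U', hU', rfl⟩ := isOpen_induced_iff.1 hU
  obtain ⟨V', hV', rfl⟩ := isOpen_induced_iff.1 hV
  have e : ∀ y : specAlg K K ⟶ X, (y ≫ w).left.base (IsLocalRing.closedPoint K) =
      w.left.base (y.left.base (IsLocalRing.closedPoint K)) := fun y => Scheme.Hom.comp_apply _ _ _
  obtain ⟨z, hz, hzU, hzV⟩ := hZ.2 (w.left.base ⁻¹' U') (w.left.base ⁻¹' V') (hU'.preimage w.left.continuous)
    (hV'.preimage w.left.continuous) ⟨_, ha, show w.left.base _ ∈ U' from Set.mem_of_eq_of_mem (e a).symm haU⟩ ⟨_, hb, show w.left.base _ ∈ V' from Set.mem_of_eq_of_mem (e b).symm hbV⟩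
  obtain ⟨y, hyZ, hyU, hyV⟩ := exists_pt (X := X) (Z := Z ∩ (w.left.base ⁻¹' U' ∩ w.left.base ⁻¹' V')) ⟨z, hz, hzU, hzV⟩
    (hZc.isLocallyClosed.inter ((hU'.preimage w.left.continuous).inter (hV'.preimage w.left.continuous)).isLocallyClosed)
  exact ⟨_, ⟨y, hyZ, rfl⟩, show (y ≫ w).left.base _ ∈ U' from Set.mem_of_eq_of_mem (e y) hyU,
    show (y ≫ w).left.base _ ∈ V' from Set.mem_of_eq_of_mem (e y) hyV⟩

variable (G : Over (Spec (CommRingCat.of K))) [GrpObj G] [LocallyOfFiniteType G.hom]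

theorem comp_const {T : Over (Spec (CommRingCat.of K))} (x : specAlg K K ⟶ T) (a : Pts G) :
    x ≫ toUnit T ≫ sec G a = a := by
  rw [← Category.assoc, comp_toUnit, ← comp_toUnit (𝟙 _), Category.assoc, Category.id_comp]
  exact (congrArg (· ≫ sec G a) (comp_toUnit a)).symm.trans ((Category.assoc _ _ _).trans (comp_sec G a a))

omit [IsAlgClosed K] in
theorem finType_tensor (X Y : Over (Spec (CommRingCat.of K))) [LocallyOfFiniteType X.hom] [QuasiCompact X.hom]
    [LocallyOfFiniteType Y.hom] [QuasiCompact Y.hom] :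
    LocallyOfFiniteType (X ⊗ Y).hom ∧ QuasiCompact (X ⊗ Y).hom :=
  ⟨inferInstanceAs (LocallyOfFiniteType (pullback.fst X.hom Y.hom ≫ X.hom)),
    inferInstanceAs (QuasiCompact (pullback.fst X.hom Y.hom ≫ X.hom))⟩

/-- The image of a scheme lies in the closure of the image of its rational points. -/
theorem range_subset_closure {X : Over (Spec (CommRingCat.of K))} [LocallyOfFiniteType X.hom] (w : X ⟶ G) :
    Set.range w.left.base ⊆ closure (ptMap G '' imgSet w) := by
  rintro _ ⟨q, rfl⟩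
  by_contra hq
  obtain ⟨x, hx⟩ := exists_pt (X := X) (Z := w.left.base ⁻¹' (closure (ptMap G '' imgSet w))ᶜ) ⟨q, hq⟩
    (isClosed_closure.isOpen_compl.preimage w.left.continuous).isLocallyClosed
  exact hx (subset_closure ⟨x ≫ w, ⟨x, rfl⟩, Scheme.Hom.comp_apply _ _ _⟩)

theorem geo : Geo (H := Pts G) (Img G) where
  singleton g := by
    haveI : LocallyOfFiniteType (specAlg K K).hom := by
      show LocallyOfFiniteType (Spec.map _)
      rw [Algebra.algebraMap_self]
      exact inferInstanceAs (LocallyOfFiniteType (Spec.map (𝟙 (CommRingCat.of K))))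
    refine ⟨specAlg K K, inferInstance, inferInstanceAs (QuasiCompact (Spec.map _)), g, ?_⟩
    have h : ∀ x : specAlg K K ⟶ specAlg K K, x = 𝟙 _ := fun x => pt_ext (Subsingleton.elim (α := PrimeSpectrum K) _ _)
    exact Set.ext fun y => ⟨fun hy => ⟨𝟙 _, (Category.id_comp g).trans hy.symm⟩, fun ⟨x, hx⟩ => by
      rw [h x] at hx; exact hx.symm.trans (Category.id_comp g)⟩
  mul P Q hP hQ := by
    obtain ⟨X, hX, hX', w, rfl⟩ := hP
    obtain ⟨Y, hY, hY', v, rfl⟩ := hQ
    obtain ⟨h1, h2⟩ := finType_tensor X Y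
    refine ⟨X ⊗ Y, h1, h2, (fst X Y ≫ w) * (snd X Y ≫ v), ?_⟩
    ext g
    constructor
    · rintro ⟨_, ⟨x, rfl⟩, _, ⟨y, rfl⟩, rfl⟩
      exact ⟨lift x y, by simp [MonObj.comp_mul]⟩
    · rintro ⟨z, rfl⟩
      exact ⟨_, ⟨z ≫ fst X Y, rfl⟩, _, ⟨z ≫ snd X Y, rfl⟩, by simp [MonObj.comp_mul]⟩
  inv P hP := by
    obtain ⟨X, hX, hX', w, rfl⟩ := hP
    refine ⟨X, hX, hX', w⁻¹, ?_⟩
    ext g
    constructor
    · rintro ⟨x, hx⟩
      exact ⟨x, by simp only [GrpObj.comp_inv]; exact inv_eq_iff_eq_inv.2 hx⟩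
    · rintro ⟨x, rfl⟩
      exact ⟨x, by simp only [GrpObj.comp_inv, _root_.inv_inv]⟩
  comm P b hP := by
    obtain ⟨X, hX, hX', w, rfl⟩ := hP
    refine ⟨X, hX, hX', w * (toUnit X ≫ sec G b) * w⁻¹ * (toUnit X ≫ sec G b)⁻¹, ?_⟩
    rw [imgSet, ← Set.range_comp]
    refine congrArg Set.range (funext fun x => ?_)
    simp only [Function.comp_apply, MonObj.comp_mul, GrpObj.comp_inv, comp_const, commutatorElement_def]
  inter P Z hP hZ := by
    obtain ⟨X, hX, hX', w, rfl⟩ := hP
    obtain ⟨Z', hZ', rfl⟩ := isClosed_induced_iff.1 hZ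
    obtain ⟨Y, hY, hY', j, -, -, -, hj⟩ := exists_closedSub (hZ'.preimage w.left.continuous)
    refine ⟨Y, hY, hY', j ≫ w, ?_⟩
    ext g
    constructor
    · rintro ⟨⟨x, rfl⟩, hx⟩
      obtain ⟨y, rfl⟩ : x ∈ imgSet j := hj.symm.subset (by
        show w.left.base _ ∈ Z'
        rw [← Scheme.Hom.comp_apply]
        exact hx)
      exact ⟨y, (Category.assoc _ _ _).symm⟩
    · rintro ⟨y, rfl⟩
      refine ⟨⟨y ≫ j, Category.assoc _ _ _⟩, ?_⟩
      have h : y ≫ j ∈ {x : specAlg K K ⟶ X | x.left.base (IsLocalRing.closedPoint K) ∈ w.left.base ⁻¹' Z'} :=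
        hj.subset ⟨y, rfl⟩
      show ptMap G (y ≫ j ≫ w) ∈ Z'
      rw [← Category.assoc]
      exact Set.mem_of_eq_of_mem (Scheme.Hom.comp_apply _ _ _) h
  exists_open P hP hPi := by
    obtain ⟨X, hX, hX', w, rfl⟩ := hP
    have hind : IsInducing (ptMap G) := ⟨rfl⟩
    let Z := closure (ptMap G '' imgSet w)
    have hZ : IsIrreducible Z := (hPi.image _ hind.continuous.continuousOn).closure
    have hsub : Set.range w.left.base ⊆ Z := range_subset_closure G w
    have hdense : Z ⊆ closure (Set.range w.left.base) := closure_mono (by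
      rintro _ ⟨_, ⟨x, rfl⟩, rfl⟩
      exact ⟨_, (Scheme.Hom.comp_apply _ _ _).symm⟩)
    haveI : IsLocallyNoetherian G.left := LocallyOfFiniteType.isLocallyNoetherian G.hom
    haveI : LocallyOfFiniteType w.left := by
      have : LocallyOfFiniteType (w.left ≫ G.hom) := by rw [Over.w w]; infer_instance
      exact locallyOfFiniteType_of_comp w.left G.hom
    haveI : LocallyOfFinitePresentation w.left := LocallyOfFinitePresentation.iff_locallyOfFiniteType.2 inferInstance
    haveI : QuasiCompact w.left := by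
      have : QuasiCompact (w.left ≫ G.hom) := by rw [Over.w w]; infer_instance
      exact QuasiCompact.of_comp w.left G.hom
    have hlc := w.left.isLocallyConstructible_image (s := (Set.univ : Set X.left)) IsConstructible.univ.isLocallyConstructible
    rw [Set.image_univ] at hlc
    obtain ⟨g₀, hg₀⟩ := hPi.nonempty
    obtain ⟨O, hg₀O, hO, hcons⟩ := hlc (ptMap G g₀)
    have hg₀O' : ptMap G g₀ ∈ O := mem_of_mem_nhds hg₀O
    have hZO : IsIrreducible (Subtype.val ⁻¹' Z : Set O) :=
      ⟨⟨⟨_, hg₀O'⟩, subset_closure ⟨g₀, hg₀, rfl⟩⟩, hZ.2.preimage hO.isOpenEmbedding_subtypeVal⟩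
    obtain ⟨V, hV, ⟨⟨v, hvO⟩, hvV, hvZ⟩, hVsub⟩ := Groth.SpectralTopology.exists_open_of_dense hcons hZO (by
      intro z hz
      rw [← Set.preimage_inter, ← hO.isOpenMap_subtype_val.preimage_closure_eq_closure_preimage continuous_subtype_val]
      rw [Set.inter_eq_left.2 hsub]
      exact hdense hz)
    obtain ⟨V', hV', rfl⟩ := isOpen_induced_iff.1 hV
    have hO' : IsOpen (V' ∩ O) := hV'.inter hO
    refine ⟨ptMap G ⁻¹' (V' ∩ O), hO'.preimage hind.continuous, ?_, ?_⟩
    · obtain ⟨_, hw, ⟨g, hg, rfl⟩⟩ := mem_closure_iff.1 hvZ _ hO' ⟨hvV, hvO⟩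
      exact ⟨g, hw, subset_closure hg⟩
    · rintro g ⟨⟨hgV, hgO⟩, hgc⟩
      have hgZ : ptMap G g ∈ Z := (hind.closure_eq_preimage_closure_image _).subset hgc
      exact exists_pt_image w (hVsub (show (⟨_, hgO⟩ : O) ∈ _ ∩ _ from ⟨hgV, hgZ⟩))
  noeth P hP := by
    obtain ⟨X, hX, hX', w, rfl⟩ := hP
    haveI : IsLocallyNoetherian X.left := LocallyOfFiniteType.isLocallyNoetherian X.hom
    haveI : CompactSpace X.left := QuasiCompact.compactSpace_of_compactSpace X.hom
    haveI : IsNoetherian X.left := {}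
    haveI : NoetherianSpace X.left := inferInstance
    haveI : NoetherianSpace (Set.range w.left.base) := NoetherianSpace.range _ w.left.continuous
    let φ : imgSet w → Set.range w.left.base := fun g =>
      ⟨ptMap G g.1, by obtain ⟨x, hx⟩ := g.2; exact ⟨_, (Scheme.Hom.comp_apply _ _ _).symm.trans (congrArg (ptMap G) hx)⟩⟩
    have : IsInducing φ :=
      IsInducing.codRestrict ((⟨rfl⟩ : IsInducing (ptMap G)).comp IsInducing.subtypeVal) (fun g => (φ g).2)
    exact this.noetherianSpace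
  dim := by
    obtain ⟨n, hn⟩ := Groth.FibreDim.exists_dim_eq_nat G
    exact ⟨n, ((⟨rfl⟩ : IsInducing (ptMap G)).topologicalKrullDim_le).trans hn.le⟩

/-- The rational points of a subgroup scheme. -/
theorem ptsSub {A : Over (Spec (CommRingCat.of K))} [GrpObj A] (a : A ⟶ G) [IsMonHom a] :
    ∃ Ā : Subgroup (Pts G), (Ā : Set (Pts G)) = imgSet a :=
  ⟨{ carrier := imgSet a
     one_mem' := ⟨1, MonObj.one_comp a⟩
     mul_mem' := by
       rintro _ _ ⟨x, rfl⟩ ⟨y, rfl⟩
       exact ⟨x * y, MonObj.mul_comp x y a⟩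
     inv_mem' := by
       rintro _ ⟨x, rfl⟩
       exact ⟨x⁻¹, GrpObj.inv_comp x a⟩ }, rfl⟩

theorem isClosed_imgSet {A : Over (Spec (CommRingCat.of K))} (a : A ⟶ G) [IsClosedImmersion a.left] :
    IsClosed (imgSet a) := by
  haveI : LocallyOfFiniteType A.hom := by rw [← Over.w a]; infer_instance
  have : imgSet a = ptMap G ⁻¹' Set.range a.left.base := by
    ext g
    exact ⟨fun ⟨x, hx⟩ => hx ▸ ⟨_, (Scheme.Hom.comp_apply _ _ _).symm⟩, fun h => exists_pt_image a h⟩
  rw [this]
  exact a.left.isClosedEmbedding.isClosed_range.preimage continuous_induced_dom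

end Groth.Sga3.BddGen
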